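import Mathlib
import Groth.Agent.TorKEulerLib.Main
import Groth.Agent.TorLib.Symm
import Groth.Agent.CMInterLib.Ring
import Groth.Agent.FlatDepth.Basic
import Groth.Prelude.Def_IntMult

/-!
# The `Tor` Euler characteristic of a transversal sequence
-/

set_option autoImplicit false
set_option linter.style.haveILetI false
set_option backward.isDefEq.respectTransparency false

universe u

open RingTheory.Sequence IsLocalRing CategoryTheory CategoryTheory.Limits Groth.Agent

noncomputable section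

namespace Groth.Agent.IMultLib

variable {A : Type u} [CommRing A]

theorem chi_comm (M N : Type u) [AddCommGroup M] [Module A M] [AddCommGroup N] [Module A N] :
    IntMult.chi A M N = IntMult.chi A N M := by
  refine finsum_congr fun i => ?_
  obtain ⟨e⟩ := TorLib.tor_symm (A := A) i M N
  rw [e.length_eq]

/-- `(A/J)/I(A/J) = A/(J + I)`. -/
def quotSupEquiv (I J : Ideal A) :
    ((A ⧸ J) ⧸ (I • ⊤ : Submodule A (A ⧸ J))) ≃ₗ[A] A ⧸ (J ⊔ I) :=
  (Submodule.quotEquivOfEq _ _ (by
    rw [Submodule.map_sup, Submodule.mkQ_map_self, bot_sup_eq]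
    calc (I • ⊤ : Submodule A (A ⧸ J)) = I • Submodule.map J.mkQ ⊤ := by rw [Submodule.map_top, Submodule.range_mkQ]
      _ = Submodule.map J.mkQ (I • ⊤ : Submodule A A) := (Submodule.map_smul'' _ _ _).symm
      _ = Submodule.map J.mkQ I := by rw [smul_eq_mul, Ideal.mul_top])).trans
    (Submodule.quotientQuotientEquivQuotient J (J ⊔ I) le_sup_left)

variable [IsNoetherianRing A] [IsLocalRing A]

/-- If `rs` is regular on `A` and on `A/J`, then `χ(A/J, A/(rs)) = length A/(J + (rs))`. -/
theorem chi_eq_length (J : Ideal A) (rs : List A) (hm : ∀ x ∈ rs, x ∈ maximalIdeal A)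
    (hrs : IsWeaklyRegular A rs) (hJ : IsWeaklyRegular (A ⧸ J) rs) :
    IntMult.chi A (A ⧸ J) (A ⧸ Ideal.ofList rs) =
      ((Module.length A (A ⧸ (J ⊔ Ideal.ofList rs))).toNat : ℤ) := by
  rw [chi_comm, IntMult.chi]
  let P := projectiveResolution (ModuleCat.of A (A ⧸ J))
  have hz : ∀ i, i ≠ 0 → Subsingleton (DRing.Tor A i (A ⧸ Ideal.ofList rs) (A ⧸ J)) := fun i hi =>
    ModuleCat.subsingleton_of_isZero (((TorRegLib.isWeaklyRegular_iff P rs hrs hm).1 hJ i (by omega)).of_iso
      (TorLib.torIso P (ModuleCat.of A (A ⧸ Ideal.ofList rs)) i))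
  rw [finsum_eq_single _ 0 fun i hi => by
    haveI := hz i hi
    rw [Module.length_eq_zero, ENat.toNat_zero, Nat.cast_zero, mul_zero]]
  rw [pow_zero, one_mul, (TorLib.torIso P (ModuleCat.of A (A ⧸ Ideal.ofList rs)) 0).toLinearEquiv.length_eq,
    (TorRegLib.h0Equiv P (Ideal.ofList rs)).length_eq, (quotSupEquiv (Ideal.ofList rs) J).length_eq]

/-- A Cohen–Macaulay quotient ring is a Cohen–Macaulay module. -/
theorem cmModule_quotient (J : Ideal A) (h : LocCoh.IsCohenMacaulayLocalRing (A ⧸ J)) :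
    LocCoh.IsCohenMacaulayModule A (A ⧸ J) := by
  haveI := h
  have hd : LocCoh.depth (A ⧸ J) (A ⧸ J) = LocCoh.depth A (A ⧸ J) :=
    FlatDepth.depth_of_surjective (S := A) (R := A ⧸ J) Ideal.Quotient.mk_surjective _
  unfold LocCoh.IsCohenMacaulayModule
  rw [← hd, ← h.supportDim_eq_depth, Module.supportDim_quotient_eq_ringKrullDim, Module.supportDim_self_eq_ringKrullDim]

/-- Parameters of a Cohen–Macaulay quotient. -/
theorem isWeaklyRegular_quotient (J : Ideal A) (h : LocCoh.IsCohenMacaulayLocalRing (A ⧸ J)) (rs : List A)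
    (hm : ∀ x ∈ rs, x ∈ maximalIdeal A) (h0 : ringKrullDim (A ⧸ (J ⊔ Ideal.ofList rs)) ≤ 0)
    (hd : (rs.length : WithBot ℕ∞) ≤ ringKrullDim (A ⧸ J)) : IsWeaklyRegular (A ⧸ J) rs := by
  refine CMInterLib.isWeaklyRegular_of_supportDim_le rs _ (cmModule_quotient J h) hm ?_
  rw [Module.supportDim_eq_of_equiv (quotSupEquiv (Ideal.ofList rs) J), Module.supportDim_quotient_eq_ringKrullDim,
    Module.supportDim_quotient_eq_ringKrullDim]
  exact (add_le_add_left h0 _).trans ((zero_add _).le.trans hd)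

end Groth.Agent.IMultLib
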