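import Mathlib
import Groth.Agent.IdealStalkLib.Cartier
import Groth.Agent.DimFormulaLib.Field
import Groth.Agent.DimFormulaLib.FibrePoints
import Groth.Agent.ASp.GeomRedEt
import Groth.Prelude.Def_IntMult

/-!
# The local rings at a component of a proper intersection
-/

set_option autoImplicit false
set_option linter.style.haveILetI false

universe u

open CategoryTheory AlgebraicGeometry IsLocalRing Groth.Agent

noncomputable section

namespace Groth.Agent.IMultLib

variable {K : Type u} [Field K] {X : Scheme.{u}}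

/-- On an integral scheme of finite type, `dim 𝒪_x + dim closure {x} = dim X`. -/
theorem dims_point (f : X ⟶ Spec (CommRingCat.of K)) [LocallyOfFiniteType f] [IsIntegral X] (r : ℕ)
    (hr : topologicalKrullDim X = r) (x : X) :
    ∃ a t : ℕ, ringKrullDim (X.presheaf.stalk x) = (a : WithBot ℕ∞) ∧
      topologicalKrullDim ↥(closure ({x} : Set X)) = (t : WithBot ℕ∞) ∧ a + t = r := by
  obtain ⟨a, t, ha, -, hloc, hh⟩ := DimFormulaLib.field_dims f x
  refine ⟨a, t, ha, ?_, ?_⟩
  · rw [DimFormulaLib.topologicalKrullDim_closure_singleton, hh]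
    rfl
  · have h1 : FlatMor.localDim ↥X x = topologicalKrullDim ↥X := by
      refine le_antisymm ?_ (le_iInf fun W => (DimFormulaLib.topologicalKrullDim_opens f W.1 ⟨_, W.2⟩).ge)
      exact (iInf_le _ ⟨⊤, trivial⟩).trans (DimFormulaLib.topologicalKrullDim_opens f ⊤ ⟨x, trivial⟩).le
    rw [hloc, hr] at h1
    exact_mod_cast h1

/-- The same for an integral closed subscheme. -/
theorem dims_subscheme (f : X ⟶ Spec (CommRingCat.of K)) [LocallyOfFiniteType f] (I : X.IdealSheafData)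
    [IsIntegral I.subscheme] (r : ℕ) (hr : topologicalKrullDim I.support = r) (ξ : X) (hξ : ξ ∈ I.support) :
    (IntMult.stalkIdeal I ξ).IsPrime ∧
      ∃ a t : ℕ, ringKrullDim (X.presheaf.stalk ξ ⧸ IntMult.stalkIdeal I ξ) = (a : WithBot ℕ∞) ∧
        topologicalKrullDim ↥(closure ({ξ} : Set X)) = (t : WithBot ℕ∞) ∧ a + t = r := by
  obtain ⟨w, rfl⟩ : ξ ∈ Set.range I.subschemeι := by rw [Scheme.IdealSheafData.range_subschemeι]; exact hξ
  rw [← IdealStalkLib.ker_stalkMap_subschemeι I w]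
  refine ⟨RingHom.ker_isPrime _, ?_⟩
  have hemb := I.subschemeι.isClosedEmbedding
  have hr' : topologicalKrullDim ↥I.subscheme = r := by
    rw [← hr]
    exact IsHomeomorph.topologicalKrullDim_eq _
      (hemb.isEmbedding.toHomeomorph.trans (Homeomorph.setCongr (Scheme.IdealSheafData.range_subschemeι _))).isHomeomorph
  obtain ⟨a, t, ha, ht, hat⟩ := dims_point (I.subschemeι ≫ f) r hr' w
  refine ⟨a, t, ?_, ?_, hat⟩
  · rw [ringKrullDim_eq_of_ringEquiv (RingHom.quotientKerEquivOfSurjective (I.subschemeι.stalkMap_surjective w))]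
    exact ha
  · rw [← ht]
    have him : I.subschemeι '' closure ({w} : Set I.subscheme) = closure ({I.subschemeι w} : Set X) := by
      rw [← hemb.closure_image_eq, Set.image_singleton]
    exact (IsHomeomorph.topologicalKrullDim_eq _
      ((hemb.isEmbedding.homeomorphImage _).trans (Homeomorph.setCongr him)).isHomeomorph).symm

/-- At a generic point of `V ∩ W` the sum of the two ideals is primary to the maximal ideal. -/
theorem sup_radical (IV IW : X.IdealSheafData) (ξ : X) (hξV : ξ ∈ IV.support) (hξW : ξ ∈ IW.support)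
    (hmax : ∀ ξ' : X, ξ' ∈ IV.support → ξ' ∈ IW.support → ξ' ⤳ ξ → ξ' = ξ) :
    (IntMult.stalkIdeal IV ξ ⊔ IntMult.stalkIdeal IW ξ).radical = maximalIdeal (X.presheaf.stalk ξ) := by
  refine le_antisymm ((Ideal.radical_mono (sup_le (IdealStalkLib.stalkIdeal_le_maximal IV hξV)
    (IdealStalkLib.stalkIdeal_le_maximal IW hξW))).trans (Ideal.IsPrime.radical inferInstance).le) ?_
  rw [Ideal.radical_eq_sInf]
  refine le_sInf ?_
  rintro P ⟨hP, hPp⟩
  haveI := hPp
  obtain ⟨_, ⟨U : X.Opens, hU, rfl⟩, hxU, -⟩ := X.isBasis_affineOpens.exists_subset_of_mem_open (Set.mem_univ ξ) isOpen_univ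
  rw [IdealStalkLib.stalkIdeal_eq IV ⟨U, hU⟩ ξ hxU, IdealStalkLib.stalkIdeal_eq IW ⟨U, hU⟩ ξ hxU, sup_le_iff,
    Ideal.map_le_iff_le_comap, Ideal.map_le_iff_le_comap] at hP
  letI : Algebra Γ(X, U) (X.presheaf.stalk ξ) := TopCat.Presheaf.algebra_section_stalk X.presheaf ⟨ξ, hxU⟩
  haveI := hU.isLocalization_stalk ⟨ξ, hxU⟩
  let q : PrimeSpectrum Γ(X, U) := ⟨P.comap (algebraMap Γ(X, U) (X.presheaf.stalk ξ)), Ideal.IsPrime.comap _⟩
  let p := hU.primeIdealOf ⟨ξ, hxU⟩
  have hmp : (maximalIdeal (X.presheaf.stalk ξ)).comap (algebraMap Γ(X, U) (X.presheaf.stalk ξ)) = p.asIdeal :=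
    IsLocalization.AtPrime.comap_maximalIdeal (X.presheaf.stalk ξ) p.asIdeal
  have hqp : q.asIdeal ≤ p.asIdeal := hmp ▸ Ideal.comap_mono (le_maximalIdeal hPp.ne_top)
  have hsp : hU.fromSpec q ⤳ ξ := by
    have h := ((PrimeSpectrum.le_iff_specializes q p).1 hqp).map hU.fromSpec.continuous
    rwa [hU.fromSpec_primeIdealOf] at h
  have hmem : ∀ (I : X.IdealSheafData), (I.ideal ⟨U, hU⟩ ≤ q.asIdeal) → hU.fromSpec q ∈ I.support := by
    intro I hI
    have hqU : hU.fromSpec q ∈ U := by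
      rw [← SetLike.mem_coe, ← hU.range_fromSpec]
      exact ⟨q, rfl⟩
    refine (Scheme.IdealSheafData.mem_support_iff_of_mem (U := ⟨U, hU⟩) hqU).2 ?_
    have h : q ∈ hU.fromSpec ⁻¹' X.zeroLocus (U := U) (I.ideal ⟨U, hU⟩ : Set Γ(X, U)) := by
      rw [hU.fromSpec_preimage_zeroLocus]
      exact hI
    exact h
  have hqξ : hU.fromSpec q = ξ := hmax _ (hmem IV hP.1) (hmem IW hP.2) hsp
  have hqeq : q = p := hU.fromSpec.isOpenEmbedding.injective (hqξ.trans (hU.fromSpec_primeIdealOf ⟨ξ, hxU⟩).symm)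
  have hqI : P.comap (algebraMap Γ(X, U) (X.presheaf.stalk ξ)) = p.asIdeal := congrArg PrimeSpectrum.asIdeal hqeq
  have hmm : (p.asIdeal).map (algebraMap Γ(X, U) (X.presheaf.stalk ξ)) = maximalIdeal (X.presheaf.stalk ξ) :=
    IsLocalization.AtPrime.map_eq_maximalIdeal p.asIdeal (X.presheaf.stalk ξ)
  have hPm : P = maximalIdeal (X.presheaf.stalk ξ) := by
    rw [← IsLocalization.map_comap p.asIdeal.primeCompl (X.presheaf.stalk ξ) P]
    rw [Ideal.under_def, hqI, hmm]
  exact hPm.ge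

/-- The numerical facts at a component of a proper intersection. -/
theorem exists_dims (f : X ⟶ Spec (CommRingCat.of K)) [LocallyOfFiniteType f] [IsIntegral X] (IV IW : X.IdealSheafData)
    [IsIntegral IV.subscheme] [IsIntegral IW.subscheme] (n r s : ℕ) (hn : topologicalKrullDim X = n)
    (hr : topologicalKrullDim IV.support = r) (hs : topologicalKrullDim IW.support = s)
    (hprop : IntMult.ProperInt (IV.support : Set X) (IW.support : Set X) n r s) (ξ : X) (hξV : ξ ∈ IV.support)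
    (hξW : ξ ∈ IW.support) :
    ∃ a v w : ℕ, ringKrullDim (X.presheaf.stalk ξ) = (a : WithBot ℕ∞) ∧
      ringKrullDim (X.presheaf.stalk ξ ⧸ IntMult.stalkIdeal IV ξ) = (v : WithBot ℕ∞) ∧
      ringKrullDim (X.presheaf.stalk ξ ⧸ IntMult.stalkIdeal IW ξ) = (w : WithBot ℕ∞) ∧ a ≤ v + w := by
  obtain ⟨a, t, ha, ht, hat⟩ := dims_point f n hn ξ
  obtain ⟨-, v, t₁, hv, ht₁, hvt⟩ := dims_subscheme f IV r hr ξ hξV
  obtain ⟨-, w, t₂, hw, ht₂, hwt⟩ := dims_subscheme f IW s hs ξ hξW
  have e1 : t₁ = t := by exact_mod_cast ht₁.symm.trans ht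
  have e2 : t₂ = t := by exact_mod_cast ht₂.symm.trans ht
  refine ⟨a, v, w, ha, hv, hw, ?_⟩
  obtain ⟨hle, hdim⟩ := hprop ⟨ξ, hξV, hξW⟩
  have hsub : closure ({ξ} : Set X) ⊆ (IV.support : Set X) ∩ (IW.support : Set X) :=
    closure_minimal (Set.singleton_subset_iff.2 ⟨hξV, hξW⟩)
      (IV.support.isClosed.inter IW.support.isClosed)
  have h1 := (Topology.IsEmbedding.inclusion hsub).isInducing.topologicalKrullDim_le.trans hdim
  rw [ht] at h1
  have h2 : t ≤ r + s - n := by exact_mod_cast h1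
  omega

end Groth.Agent.IMultLib
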