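import Mathlib
import Groth.Agent.IMultLib.Setup
import Groth.Agent.IMultLib.Chi

/-!
# Multiplicities along components of proper intersections
-/

set_option autoImplicit false
set_option linter.style.haveILetI false

universe u

open CategoryTheory AlgebraicGeometry IsLocalRing RingTheory.Sequence Groth.Agent

noncomputable section

namespace Groth.Agent.IMultLib

section Ring

variable {A : Type u} [CommRing A] [IsNoetherianRing A] [IsLocalRing A]

theorem mem_maximal_of_regular {c : ℕ} {g : Fin c → A} {I : Ideal A} (hI : I = Ideal.span (Set.range g))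
    (hm : I ≤ maximalIdeal A) : ∀ x ∈ List.ofFn g, x ∈ maximalIdeal A := fun x hx => by
  obtain ⟨i, rfl⟩ := List.mem_ofFn.1 hx
  exact hm (hI ▸ Ideal.subset_span ⟨i, rfl⟩)

theorem span_range_eq_ofList {c : ℕ} (g : Fin c → A) :
    Ideal.span (Set.range g) = Ideal.ofList (List.ofFn g) := by
  rw [Ideal.ofList]
  exact congrArg Ideal.span (Set.ext fun x => by simp [List.mem_ofFn])

/-- The length of a regular sequence generating `I` is the codimension of `I`. -/
theorem codim_eq {rs : List A} (hreg : IsRegular A rs) {a v : ℕ} (ha : ringKrullDim A = (a : WithBot ℕ∞))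
    (hv : ringKrullDim (A ⧸ Ideal.ofList rs) = (v : WithBot ℕ∞)) : v + rs.length = a := by
  have h := ringKrullDim_add_length_eq_ringKrullDim_of_isRegular rs hreg
  rw [hv, ha] at h
  exact_mod_cast h

/-- A regular sequence generating `I` stays regular on a Cohen–Macaulay `A/J` of the complementary dimension. -/
theorem isWeaklyRegular_of_dims {I J : Ideal A} (rs : List A) (hI : I = Ideal.ofList rs) (hm : I ≤ maximalIdeal A)
    (hreg : IsRegular A rs) (hrad : (I ⊔ J).radical = maximalIdeal A) (hJ : LocCoh.IsCohenMacaulayLocalRing (A ⧸ J))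
    {a v w : ℕ} (ha : ringKrullDim A = (a : WithBot ℕ∞)) (hv : ringKrullDim (A ⧸ I) = (v : WithBot ℕ∞))
    (hw : ringKrullDim (A ⧸ J) = (w : WithBot ℕ∞)) (hle : a ≤ v + w) : IsWeaklyRegular (A ⧸ J) rs := by
  subst hI
  have hc := codim_eq hreg ha hv
  refine isWeaklyRegular_quotient J hJ rs (fun x hx => hm (Ideal.subset_span hx)) ?_ ?_
  · rw [sup_comm]
    have hkd : Ring.KrullDimLE 0 (A ⧸ (Ideal.ofList rs ⊔ J)) := Ring.KrullDimLE.mk₀ fun P hP => by
      haveI := hP
      have h1 : Ideal.ofList rs ⊔ J ≤ P.comap (Ideal.Quotient.mk (Ideal.ofList rs ⊔ J)) := by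
        intro z hz
        rw [Ideal.mem_comap, Ideal.Quotient.eq_zero_iff_mem.2 hz]
        exact zero_mem _
      haveI : (P.comap (Ideal.Quotient.mk (Ideal.ofList rs ⊔ J))).IsPrime := Ideal.IsPrime.comap _
      have h2 : maximalIdeal A ≤ P.comap (Ideal.Quotient.mk (Ideal.ofList rs ⊔ J)) :=
        hrad ▸ (Ideal.IsPrime.radical_le_iff inferInstance).2 h1
      have h3 : (P.comap (Ideal.Quotient.mk (Ideal.ofList rs ⊔ J))).IsMaximal :=
        ((maximalIdeal.isMaximal A).eq_of_le (Ideal.IsPrime.comap _).ne_top h2) ▸ maximalIdeal.isMaximal A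
      rw [← Ideal.map_comap_of_surjective _ Ideal.Quotient.mk_surjective P]
      exact Ideal.IsMaximal.map_of_surjective_of_ker_le Ideal.Quotient.mk_surjective
        (Ideal.mk_ker.le.trans h1)
    exact Ring.krullDimLE_iff.1 hkd
  · rw [hw]
    exact_mod_cast (show rs.length ≤ w by omega)

/-- `χ(A/J, A/I) = length A/(J + I)` for `I` generated by a sequence regular on `A` and `A/J`. -/
theorem chi_span {c : ℕ} (g : Fin c → A) {I J : Ideal A} (hI : I = Ideal.span (Set.range g)) (hm : I ≤ maximalIdeal A)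
    (hreg : IsWeaklyRegular A (List.ofFn g)) (hJ : IsWeaklyRegular (A ⧸ J) (List.ofFn g)) :
    IntMult.chi A (A ⧸ J) (A ⧸ I) = ((Module.length A (A ⧸ (J ⊔ I))).toNat : ℤ) := by
  have hmem := mem_maximal_of_regular hI hm
  rw [span_range_eq_ofList] at hI
  subst hI
  exact chi_eq_length J _ hmem hreg hJ

end Ring

variable {K : Type u} [Field K] {X : Scheme.{u}}

theorem isNoetherianRing_stalk (f : X ⟶ Spec (CommRingCat.of K)) [LocallyOfFiniteType f] (ξ : X) :
    IsNoetherianRing (X.presheaf.stalk ξ) := by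
  haveI : IsLocallyNoetherian X := LocallyOfFiniteType.isLocallyNoetherian f
  infer_instance

/-- The Tor formula is the length when `V` is cut out by a regular sequence and `W` is Cohen–Macaulay. -/
theorem mult_eq_length (f : X ⟶ Spec (CommRingCat.of K)) [LocallyOfFiniteType f] [IsIntegral X]
    (IV IW : X.IdealSheafData) [IsIntegral IV.subscheme] [IsIntegral IW.subscheme] (n r s : ℕ)
    (hn : topologicalKrullDim X = n) (hr : topologicalKrullDim IV.support = r) (hs : topologicalKrullDim IW.support = s)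
    (hprop : IntMult.ProperInt (IV.support : Set X) (IW.support : Set X) n r s) (ξ : X) (hξV : ξ ∈ IV.support)
    (hξW : ξ ∈ IW.support) (hmax : ∀ ξ' : X, ξ' ∈ IV.support → ξ' ∈ IW.support → ξ' ⤳ ξ → ξ' = ξ)
    (c : ℕ) (g : Fin c → ↑(X.presheaf.stalk ξ)) (hg : IntMult.stalkIdeal IV ξ = Ideal.span (Set.range g))
    (hreg : IsRegular (↑(X.presheaf.stalk ξ)) (List.ofFn g))
    (hW : LocCoh.IsCohenMacaulayLocalRing (↑(X.presheaf.stalk ξ) ⧸ IntMult.stalkIdeal IW ξ)) :
    IntMult.mult IV IW ξ = ((Module.length (X.presheaf.stalk ξ)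
      (↑(X.presheaf.stalk ξ) ⧸ (IntMult.stalkIdeal IW ξ ⊔ IntMult.stalkIdeal IV ξ))).toNat : ℤ) := by
  haveI := isNoetherianRing_stalk f ξ
  obtain ⟨a, v, w, ha, hv, hw, hle⟩ := exists_dims f IV IW n r s hn hr hs hprop ξ hξV hξW
  have hm := IdealStalkLib.stalkIdeal_le_maximal IV hξV
  exact chi_span g hg hm hreg.toIsWeaklyRegular (isWeaklyRegular_of_dims _ (hg.trans (span_range_eq_ofList g)) hm hreg
    (sup_radical IV IW ξ hξV hξW hmax) hW ha hv hw hle)

/-- The same for a Cartier divisor `V`. -/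
theorem mult_eq_length_cartier (f : X ⟶ Spec (CommRingCat.of K)) [LocallyOfFiniteType f] [IsIntegral X]
    (IV IW : X.IdealSheafData) [IsIntegral IV.subscheme] [IsIntegral IW.subscheme] (n r s : ℕ)
    (hn : topologicalKrullDim X = n) (hr : topologicalKrullDim IV.support = r) (hs : topologicalKrullDim IW.support = s)
    (hprop : IntMult.ProperInt (IV.support : Set X) (IW.support : Set X) n r s) (ξ : X) (hξV : ξ ∈ IV.support)
    (hξW : ξ ∈ IW.support) (hmax : ∀ ξ' : X, ξ' ∈ IV.support → ξ' ∈ IW.support → ξ' ⤳ ξ → ξ' = ξ)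
    (g : ↑(X.presheaf.stalk ξ)) (hg : IntMult.stalkIdeal IV ξ = Ideal.span {g})
    (hreg : IsSMulRegular (↑(X.presheaf.stalk ξ)) g) :
    IntMult.mult IV IW ξ = ((Module.length (X.presheaf.stalk ξ)
      (↑(X.presheaf.stalk ξ) ⧸ (IntMult.stalkIdeal IW ξ ⊔ Ideal.span {g}))).toNat : ℤ) := by
  haveI := isNoetherianRing_stalk f ξ
  obtain ⟨a, v, w, ha, hv, hw, hle⟩ := exists_dims f IV IW n r s hn hr hs hprop ξ hξV hξW
  have hm := IdealStalkLib.stalkIdeal_le_maximal IV hξV
  haveI := (dims_subscheme f IW s hs ξ hξW).1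
  have hgm : g ∈ maximalIdeal (X.presheaf.stalk ξ) := hm (hg ▸ Ideal.mem_span_singleton_self g)
  have hrs : List.ofFn (fun _ : Fin 1 => g) = [g] := rfl
  have hspan : IntMult.stalkIdeal IV ξ = Ideal.span (Set.range fun _ : Fin 1 => g) := by rw [hg, Set.range_const]
  have hwreg : IsWeaklyRegular (↑(X.presheaf.stalk ξ)) [g] := (isWeaklyRegular_singleton_iff _ _).2 hreg
  have hr1 : IsRegular (↑(X.presheaf.stalk ξ)) [g] := ⟨hwreg, fun h => by
    rw [smul_eq_mul, Ideal.mul_top, Ideal.ofList_singleton] at h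
    exact (maximalIdeal.isMaximal (X.presheaf.stalk ξ)).ne_top (top_le_iff.1 (h.le.trans ((Ideal.span_singleton_le_iff_mem _).2 hgm)))⟩
  have hgW : g ∉ IntMult.stalkIdeal IW ξ := fun hmem => by
    have hc := codim_eq hr1 ha (by rw [Ideal.ofList_singleton, ← hg]; exact hv)
    have h1 : IntMult.stalkIdeal IV ξ ≤ IntMult.stalkIdeal IW ξ := hg ▸ (Ideal.span_singleton_le_iff_mem _).2 hmem
    have h2 := sup_radical IV IW ξ hξV hξW hmax
    rw [sup_eq_right.2 h1, Ideal.IsPrime.radical inferInstance] at h2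
    have hmx : (IntMult.stalkIdeal IW ξ).IsMaximal := h2 ▸ maximalIdeal.isMaximal _
    letI := Ideal.Quotient.field (IntMult.stalkIdeal IW ξ)
    rw [ringKrullDim_eq_zero_of_field] at hw
    have : (0 : ℕ) = w := by exact_mod_cast hw
    simp only [List.length_cons, List.length_nil] at hc
    omega
  have hJ : IsWeaklyRegular (↑(X.presheaf.stalk ξ) ⧸ IntMult.stalkIdeal IW ξ) [g] := by
    refine (isWeaklyRegular_singleton_iff _ _).2 fun y z hyz => ?_
    have hne : Ideal.Quotient.mk (IntMult.stalkIdeal IW ξ) g ≠ 0 := fun h => hgW (Ideal.Quotient.eq_zero_iff_mem.1 h)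
    refine mul_left_cancel₀ hne ?_
    simpa [Algebra.smul_def, Ideal.Quotient.algebraMap_eq] using hyz
  rw [← hg]
  exact chi_span (fun _ : Fin 1 => g) hspan hm (hrs ▸ hwreg) (hrs ▸ hJ)

end Groth.Agent.IMultLib
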