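import Mathlib
import Groth.Agent.IMultLib.Main
import Groth.Agent.AcycLib.Basic
import Groth.Agent.CAlgBasics.Depth

/-!
# Vanishing of `Tor` of finite length by depth
-/

set_option autoImplicit false
set_option linter.style.haveILetI false
set_option backward.isDefEq.respectTransparency false

universe u

open CategoryTheory CategoryTheory.Limits IsLocalRing RingTheory.Sequence TensorProduct Groth.Agent

noncomputable section

namespace Groth.Agent.IMultLib

variable {A : Type u} [CommRing A] [IsNoetherianRing A] [IsLocalRing A]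

theorem depth_tensor_flat (N : Type u) [AddCommGroup N] [Module A N] [Module.Finite A N] (F : Type u) [AddCommGroup F]
    [Module A F] [Module.Finite A F] [Module.Flat A F] (e : ℕ) (h : (e : ℕ∞) ≤ LocCoh.depth A N) :
    (e : ℕ∞) ≤ LocCoh.depth A (F ⊗[A] N) := by
  rcases subsingleton_or_nontrivial (F ⊗[A] N) with hT | hT
  · rw [AcycLib.depth_subsingleton]; exact le_top
  rcases subsingleton_or_nontrivial N with hN | hN
  · exact absurd hT (not_nontrivial_iff_subsingleton.2 inferInstance)
  rw [CAlgBasics.natCast_le_depth_iff] at h ⊢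
  obtain ⟨rs, h1, h2, h3⟩ := h
  exact ⟨rs, h1, h2.isWeaklyRegular_lTensor, h3⟩

/-- If the higher `Tor(M, N)` are killed by an ideal primary to the maximal one, `pd M ≤ k` and
`depth N ≥ k + e`, they vanish and `depth (M ⊗ N) ≥ e`. -/
theorem tor_vanish (N : Type u) [AddCommGroup N] [Module A N] [Module.Finite A N] (J : Ideal A)
    (hJ : maximalIdeal A ≤ J.radical) : ∀ (k : ℕ) (M : Type u) [AddCommGroup M] [Module A M] [Module.Finite A M],
      HasProjectiveDimensionLT (ModuleCat.of A M) (k + 1) →
      (∀ (j : ℕ), ∀ x ∈ J, ∀ z : DRing.Tor A (j + 1) M N, x • z = 0) →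
      ∀ e : ℕ, ((k + e : ℕ) : ℕ∞) ≤ LocCoh.depth A N →
        (∀ j, Subsingleton (DRing.Tor A (j + 1) M N)) ∧ (e : ℕ∞) ≤ LocCoh.depth A (M ⊗[A] N) := by
  intro k
  induction k with
  | zero =>
    intro M _ _ _ hpd _ e he
    haveI : Projective (ModuleCat.of A M) := projective_iff_hasProjectiveDimensionLT_one.2 hpd
    haveI : Module.Projective A M := (IsProjective.iff_projective M).mpr ‹_›
    exact ⟨fun j => TorLib.subsingleton_tor_of_flat M N j,
      depth_tensor_flat N M e (by simpa using he)⟩
  | succ k ih =>
    intro M _ _ _ hpd hkill e he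
    obtain ⟨n, g, hg⟩ := Module.Finite.exists_fin' A M
    have hf : Function.Injective (LinearMap.ker g).subtype := Subtype.val_injective
    have hfg : Function.Exact (LinearMap.ker g).subtype g := LinearMap.exact_subtype_ker_map g
    have hS := TorLib.shortExact_mk _ g hf hg hfg
    have hK : HasProjectiveDimensionLT (ModuleCat.of A (LinearMap.ker g)) (k + 1) := by
      haveI : Module.Projective A (Fin n → A) := inferInstance
      haveI : Projective (ModuleCat.of A (Fin n → A)) := (IsProjective.iff_projective _).mp inferInstance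
      haveI := projective_iff_hasProjectiveDimensionLT_one.1 (inferInstance : Projective (ModuleCat.of A (Fin n → A)))
      exact hS.hasProjectiveDimensionLT_X₁ (k + 1) (hasProjectiveDimensionLT_of_ge _ 1 (k + 1) (by omega)) hpd
    have hkill' : ∀ (j : ℕ), ∀ x ∈ J, ∀ z : DRing.Tor A (j + 1) (LinearMap.ker g) N, x • z = 0 := fun j x hx z => by
      let φ := TorLib.torSuccEquiv _ g N hf hg hfg j
      obtain ⟨w, rfl⟩ := φ.surjective z
      rw [← map_smul, hkill (j + 1) x hx w, map_zero]
    obtain ⟨hvan, hdep⟩ := ih (LinearMap.ker g) hK hkill' (e + 1) (by rwa [show k + (e + 1) = k + 1 + e by omega])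
    have hinj : Function.Injective ((LinearMap.ker g).subtype.rTensor N) := by
      refine (injective_iff_map_eq_zero _).2 fun z hz => ?_
      obtain ⟨r, hr, hreg⟩ := AcycLib.exists_regular_of_one_le_depth (R := A) (M := (LinearMap.ker g) ⊗[A] N)
        (le_trans (by exact_mod_cast (show 1 ≤ e + 1 by omega)) hdep)
      obtain ⟨t, ht⟩ := hJ hr
      let φ := TorLib.torOneEquivKer _ g N hf hg hfg
      obtain ⟨w, hw⟩ := φ.surjective ⟨z, hz⟩
      have h1 : r ^ t • z = 0 := by
        have h2 : r ^ t • φ w = 0 := by rw [← map_smul, hkill 0 _ ht w, map_zero]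
        rw [hw] at h2
        exact congrArg Subtype.val h2
      exact (hreg.pow t) (h1.trans (smul_zero _).symm)
    refine ⟨fun j => ?_, ?_⟩
    · rcases j with - | j
      · haveI : Subsingleton (LinearMap.ker ((LinearMap.ker g).subtype.rTensor N)) :=
          ⟨fun a b => Subtype.ext (hinj (a.2.trans b.2.symm))⟩
        exact (TorLib.torOneEquivKer _ g N hf hg hfg).toEquiv.subsingleton
      · haveI := hvan j
        exact (TorLib.torSuccEquiv _ g N hf hg hfg j).toEquiv.subsingleton
    · exact AcycLib.le_depth_quot _ (g.rTensor N) hinj (LinearMap.rTensor_surjective N hg)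
        (rTensor_exact N hfg hg) e (depth_tensor_flat N _ e (le_trans (by exact_mod_cast (show e ≤ k + 1 + e by omega)) he)) hdep

omit [IsNoetherianRing A] [IsLocalRing A] in
/-- An element killing `M` kills `Tor(M, N)`. -/
theorem smul_tor_eq_zero {M : Type u} (N : Type u) [AddCommGroup M] [Module A M] [AddCommGroup N] [Module A N] {a : A}
    (ha : ∀ m : M, a • m = 0) (i : ℕ) (z : DRing.Tor A i M N) : a • z = 0 := by
  let P := projectiveResolution (ModuleCat.of A N)
  have h0 : a • 𝟙 (ModuleCat.of A M) = 0 := ModuleCat.hom_ext (LinearMap.ext fun x => ha x)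
  have h1 := TorRegLib.homologyMap_cxMap_smul P (ModuleCat.of A M) a i
  have h2 : TorLib.cxMap P (0 : ModuleCat.of A M ⟶ ModuleCat.of A M) = 0 := by
    ext j : 1
    exact MonoidalPreadditive.zero_whiskerRight
  rw [h0, h2, HomologicalComplex.homologyMap_zero] at h1
  let φ := (TorLib.torIso P (ModuleCat.of A M) i).toLinearEquiv
  refine φ.injective ?_
  rw [map_smul, map_zero]
  exact (ConcreteCategory.congr_hom h1 (φ z)).symm

end Groth.Agent.IMultLib
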