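import Mathlib
import Groth.Agent.IMultLib.Acyclic
import Groth.Agent.FibreDepth.Local
import Groth.Agent.S1914

/-!
# Cohen–Macaulay pairs and the Samuel limit
-/

set_option autoImplicit false
set_option linter.style.haveILetI false
set_option backward.isDefEq.respectTransparency false

universe u

open CategoryTheory CategoryTheory.Limits IsLocalRing RingTheory.Sequence TensorProduct Filter Topology Polynomial Groth.Agent

noncomputable section

namespace Groth.Agent.IMultLib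

variable {A : Type u} [CommRing A]

/-- `(A/J) ⊗ (A/I) = A/(I + J)`. -/
def tensorQuotEquiv (I J : Ideal A) : (A ⧸ J) ⊗[A] (A ⧸ I) ≃ₗ[A] A ⧸ (I ⊔ J) :=
  (TensorProduct.quotTensorEquivQuotSMul (A ⧸ I) J).trans (quotSupEquiv J I)

theorem krullDimLE_zero_quot [IsLocalRing A] {I : Ideal A} (hrad : I.radical = maximalIdeal A) :
    Ring.KrullDimLE 0 (A ⧸ I) := Ring.KrullDimLE.mk₀ fun P hP => by
  haveI := hP
  haveI : (P.comap (Ideal.Quotient.mk I)).IsPrime := Ideal.IsPrime.comap _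
  have h1 : I ≤ P.comap (Ideal.Quotient.mk I) := fun z hz => by
    rw [Ideal.mem_comap, Ideal.Quotient.eq_zero_iff_mem.2 hz]; exact zero_mem _
  have h2 : maximalIdeal A ≤ P.comap (Ideal.Quotient.mk I) :=
    hrad ▸ (Ideal.IsPrime.radical_le_iff inferInstance).2 h1
  have h3 : (P.comap (Ideal.Quotient.mk I)).IsMaximal :=
    ((maximalIdeal.isMaximal A).eq_of_le (Ideal.IsPrime.comap _).ne_top h2) ▸ maximalIdeal.isMaximal A
  rw [← Ideal.map_comap_of_surjective _ Ideal.Quotient.mk_surjective P]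
  exact Ideal.IsMaximal.map_of_surjective_of_ker_le Ideal.Quotient.mk_surjective (Ideal.mk_ker.le.trans h1)

/-- Serre: for a Cohen–Macaulay pair in a regular local ring meeting in finite length with
`dim A ≤ dim A/I + dim A/J`, `χ` is the length. -/
theorem chi_eq_length_of_cm [IsRegularLocalRing A] (I J : Ideal A) (hrad : (I ⊔ J).radical = maximalIdeal A)
    (hI : LocCoh.IsCohenMacaulayLocalRing (A ⧸ I)) (hJ : LocCoh.IsCohenMacaulayLocalRing (A ⧸ J))
    {a v w : ℕ} (ha : ringKrullDim A = (a : WithBot ℕ∞)) (hv : ringKrullDim (A ⧸ I) = (v : WithBot ℕ∞))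
    (hw : ringKrullDim (A ⧸ J) = (w : WithBot ℕ∞)) (hle : a ≤ v + w) :
    IntMult.chi A (A ⧸ J) (A ⧸ I) = ((Module.length A (A ⧸ (I ⊔ J))).toNat : ℤ) := by
  have hdep : ∀ (L : Ideal A) (l : ℕ), LocCoh.IsCohenMacaulayLocalRing (A ⧸ L) →
      ringKrullDim (A ⧸ L) = (l : WithBot ℕ∞) → LocCoh.depth A (A ⧸ L) = (l : ℕ∞) := by
    intro L l hL hl
    have h := cmModule_quotient L hL
    rw [LocCoh.IsCohenMacaulayModule, Module.supportDim_quotient_eq_ringKrullDim, hl] at h
    exact (WithBot.coe_inj.mp (show ((l : ℕ∞) : WithBot ℕ∞) = _ from h)).symm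
  have hpd : HasProjectiveDimensionLT (ModuleCat.of A (A ⧸ J)) (v + 1) := by
    rw [FibreDepth.projDimLT_iff_le_depth a ha v, hdep J w hJ hw]
    exact_mod_cast (show a - v ≤ w by omega)
  have hkill : ∀ (j : ℕ), ∀ x ∈ I ⊔ J, ∀ z : DRing.Tor A (j + 1) (A ⧸ J) (A ⧸ I), x • z = 0 := by
    intro j x hx z
    obtain ⟨p, hp, q, hq, rfl⟩ := Submodule.mem_sup.1 hx
    have hk : ∀ (L : Ideal A) (b : A), b ∈ L → ∀ m : A ⧸ L, b • m = 0 := fun L b hb m => by
      obtain ⟨m, rfl⟩ := Ideal.Quotient.mk_surjective m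
      rw [Algebra.smul_def, Ideal.Quotient.algebraMap_eq, ← map_mul]
      exact Ideal.Quotient.eq_zero_iff_mem.2 (Ideal.mul_mem_right _ _ hb)
    obtain ⟨φ⟩ := TorLib.tor_symm (A := A) (j + 1) (A ⧸ J) (A ⧸ I)
    rw [add_smul, smul_tor_eq_zero _ (hk J q hq) _ z, add_zero]
    refine φ.injective ?_
    rw [map_smul, map_zero, smul_tor_eq_zero _ (hk I p hp) _ (φ z)]
  obtain ⟨hvan, -⟩ := tor_vanish (A ⧸ I) (I ⊔ J) hrad.ge v (A ⧸ J) hpd hkill 0 (le_of_eq (hdep I v hI hv).symm)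
  rw [IntMult.chi, finsum_eq_single _ 0 fun i hi => by
    obtain ⟨i, rfl⟩ := Nat.exists_eq_succ_of_ne_zero hi
    haveI := hvan i
    rw [Module.length_eq_zero, ENat.toNat_zero, Nat.cast_zero, mul_zero]]
  rw [pow_zero, one_mul, (TorLib.torZeroEquiv (A := A) (A ⧸ J) (A ⧸ I)).length_eq, (tensorQuotEquiv I J).length_eq]

variable [IsNoetherianRing A] [IsLocalRing A]

/-- The Samuel limit of `A/J` for a regular sequence of the complementary dimension, and its positivity. -/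
theorem tendsto_and_pos {c : ℕ} (g : Fin c → A) (J : Ideal A) (hm : Ideal.span (Set.range g) ≤ maximalIdeal A)
    (hne : J ≠ ⊤) (hreg : IsRegular A (List.ofFn g))
    (hrad : (Ideal.span (Set.range g) ⊔ J).radical = maximalIdeal A) {w : ℕ}
    (hw : ringKrullDim (A ⧸ J) = (w : WithBot ℕ∞)) (hcw : c ≤ w) :
    Tendsto (fun t : ℕ => (c.factorial : ℝ) *
        ((Module.length A (A ⧸ (J ⊔ Ideal.span (Set.range g) ^ t))).toNat : ℝ) / (t : ℝ) ^ c) atTop
      (𝓝 (IntMult.chi A (A ⧸ J) (A ⧸ Ideal.span (Set.range g)) : ℝ)) ∧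
      0 < IntMult.chi A (A ⧸ J) (A ⧸ Ideal.span (Set.range g)) := by
  set I := Ideal.span (Set.range g) with hI
  haveI := krullDimLE_zero_quot hrad
  have h0 : Module.supportDim A ((A ⧸ J) ⧸ (I • ⊤ : Submodule A (A ⧸ J))) ≤ 0 := by
    rw [Module.supportDim_eq_of_equiv (quotSupEquiv I J), Module.supportDim_quotient_eq_ringKrullDim, sup_comm]
    exact Ring.krullDimLE_iff.1 inferInstance
  have hlen : ∀ t : ℕ, Module.length A ((A ⧸ J) ⧸ (I ^ t • ⊤ : Submodule A (A ⧸ J))) =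
      Module.length A (A ⧸ (J ⊔ I ^ t)) := fun t => (quotSupEquiv (I ^ t) J).length_eq
  have hlim := Groth.Agent.S1914.result A c g hreg (A ⧸ J) h0
  have hlim2 : Tendsto (fun t : ℕ => (c.factorial : ℝ) *
        ((Module.length A (A ⧸ (J ⊔ I ^ t))).toNat : ℝ) / (t : ℝ) ^ c) atTop
      (𝓝 (IntMult.chi A (A ⧸ I) (A ⧸ J) : ℝ)) :=
    hlim.congr fun t => by rw [← hlen t]
  clear hlim
  rename' hlim2 => hlim
  rw [chi_comm] at hlim
  refine ⟨hlim, ?_⟩
  have hmax : ∀ p ∈ Module.support A (A ⧸ J), I ≤ p.asIdeal → p.asIdeal.IsMaximal := by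
    intro p hp hle
    have hJp : J ≤ p.asIdeal := by
      have h := Module.mem_support_iff_of_finite.1 hp
      rwa [Ideal.annihilator_quotient] at h
    have h2 : maximalIdeal A ≤ p.asIdeal := hrad ▸ (Ideal.IsPrime.radical_le_iff p.isPrime).2 (sup_le hle hJp)
    rw [← (maximalIdeal.isMaximal A).eq_of_le p.isPrime.ne_top h2]
    exact maximalIdeal.isMaximal A
  have hfin := fun t : ℕ => HSLib.length_pow_ne_top (M := A ⧸ J) hmax t
  obtain ⟨P, hdeg, hP⟩ := HSLib.exists_isHSPoly_span (M := A ⧸ J) g hfin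
  have hlim' := HSLib.tendsto_eSeq_of_poly hP hdeg
  have hchi : (IntMult.chi A (A ⧸ J) (A ⧸ I) : ℝ) = (c.factorial : ℝ) * ((P.coeff c : ℚ) : ℝ) := by
    refine tendsto_nhds_unique hlim ?_
    refine hlim'.congr fun t => ?_
    simp only [HSLib.eSeq, HSLib.colen]
    rw [← hI, ← hlen t]
  have hpos : 0 < P.coeff c := by
    rcases Nat.eq_zero_or_pos c with hc | hc
    · subst hc
      obtain ⟨t, ht, ht1⟩ := (hP.and (eventually_ge_atTop 1)).exists
      rw [Polynomial.eq_C_of_natDegree_le_zero hdeg, Polynomial.eval_C] at ht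
      rw [← ht]
      have hne' : J ⊔ I ^ t ≠ ⊤ := ne_top_of_le_ne_top (maximalIdeal.isMaximal A).ne_top
        (sup_le (le_maximalIdeal hne) ((Ideal.pow_le_self (by omega)).trans hm))
      haveI : Nontrivial (A ⧸ (J ⊔ I ^ t)) := Ideal.Quotient.nontrivial_iff.2 hne'
      have h1 : Module.length A (A ⧸ (J ⊔ I ^ t)) ≠ 0 := fun h =>
        not_subsingleton (A ⧸ (J ⊔ I ^ t)) (Module.length_eq_zero_iff.1 h)
      have h2 : Module.length A (A ⧸ (J ⊔ I ^ t)) ≠ ⊤ := by rw [← hlen]; exact hfin t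
      have h3 : (Module.length A (A ⧸ (J ⊔ I ^ t))).toNat ≠ 0 := fun h => (ENat.toNat_eq_zero.1 h).elim h1 h2
      simp only [HSLib.colen]
      rw [← hI]
      rw [← hlen t] at h3
      exact_mod_cast Nat.pos_of_ne_zero h3
    · have hjac : I ≤ Ring.jacobson A := by rw [IsLocalRing.ringJacobson_eq_maximalIdeal]; exact hm
      have h1 := HSLib.supportDim_le_natDegree hjac (A ⧸ J) hmax P hP
      rw [Module.supportDim_quotient_eq_ringKrullDim, hw] at h1
      have h2 : w ≤ P.natDegree := by exact_mod_cast h1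
      have hPc : P.natDegree = c := by omega
      have := HSLib.leadingCoeff_pos (by omega) hP.nonneg
      rwa [Polynomial.leadingCoeff, hPc] at this
  have : (0 : ℝ) < (IntMult.chi A (A ⧸ J) (A ⧸ I) : ℝ) := by
    rw [hchi]
    have : (0 : ℝ) < ((P.coeff c : ℚ) : ℝ) := by exact_mod_cast hpos
    positivity
  exact_mod_cast this

end Groth.Agent.IMultLib
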