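import Mathlib
import Groth.Agent.IMultLib.CM
import Groth.Agent.RatliffLib.Formal

/-!
# Two ideals with reduced point intersection of complementary dimension
-/

set_option autoImplicit false
set_option linter.style.haveILetI false
set_option backward.isDefEq.respectTransparency false

universe u

open IsLocalRing RingTheory.Sequence Groth.Agent

noncomputable section

namespace Groth.Agent.IMultLib

variable {A : Type u} [CommRing A] [IsRegularLocalRing A]

theorem exists_adapted_generators (I J : Ideal A) (h : I ⊔ J = maximalIdeal A) {a : ℕ}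
    (ha : ringKrullDim A = (a : WithBot ℕ∞)) :
    ∃ x : Fin a → A, (∀ i, x i ∈ I ∨ x i ∈ J) ∧ Ideal.span (Set.range x) = maximalIdeal A := by
  classical
  let S : Set (maximalIdeal A) := {z | (z : A) ∈ I ∨ (z : A) ∈ J}
  have hS : Submodule.span A S = ⊤ := by
    refine eq_top_iff.2 fun z _ => ?_
    obtain ⟨p, hp, q, hq, hpq⟩ := Submodule.mem_sup.1 (h.symm ▸ z.2 : (z : A) ∈ I ⊔ J)
    have hpm : p ∈ maximalIdeal A := h ▸ Submodule.mem_sup_left hp
    have hqm : q ∈ maximalIdeal A := h ▸ Submodule.mem_sup_right hq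
    rw [show z = ⟨p, hpm⟩ + ⟨q, hqm⟩ from Subtype.ext hpq.symm]
    exact add_mem (Submodule.subset_span (Or.inl hp)) (Submodule.subset_span (Or.inr hq))
  have hC : Submodule.span (ResidueField A) ((maximalIdeal A).toCotangent '' S) = ⊤ :=
    CotangentSpace.span_image_eq_top_iff.2 hS
  have hrank : Module.finrank (ResidueField A) (Submodule.span (ResidueField A) ((maximalIdeal A).toCotangent '' S)) = a := by
    rw [hC, finrank_top]
    have h1 := IsRegularLocalRing.spanFinrank_maximalIdeal (R := A)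
    rw [ha, spanFinrank_maximalIdeal_eq_finrank_cotangentSpace] at h1
    exact_mod_cast h1
  obtain ⟨f, hf, hspan, -⟩ := Submodule.exists_fun_fin_finrank_span_eq (ResidueField A) ((maximalIdeal A).toCotangent '' S)
  choose z hzS hz using hf
  refine ⟨fun i => (z (Fin.cast hrank.symm i) : A), fun i => hzS _, le_antisymm (Ideal.span_le.2 ?_) ?_⟩
  · rintro _ ⟨i, rfl⟩
    exact (z _).2
  · have h1 : Submodule.span A (Set.range z) = ⊤ := by
      rw [← CotangentSpace.span_image_eq_top_iff, ← Set.range_comp,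
        show (maximalIdeal A).toCotangent ∘ z = f from funext hz, hspan, hC]
    intro w hw
    have h2 : (⟨w, hw⟩ : maximalIdeal A) ∈ Submodule.span A (Set.range z) := h1 ▸ Submodule.mem_top
    have h3 := Submodule.mem_map_of_mem (f := (maximalIdeal A).subtype) h2
    rw [Submodule.map_span, ← Set.range_comp] at h3
    refine Ideal.span_mono ?_ h3
    rintro _ ⟨i, rfl⟩
    exact ⟨Fin.cast hrank i, rfl⟩

/-- Equality in the dimension bound forces regular quotients. -/
theorem regular_pair (I J : Ideal A) (h : I ⊔ J = maximalIdeal A) {a v w : ℕ}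
    (ha : ringKrullDim A = (a : WithBot ℕ∞)) (hv : ringKrullDim (A ⧸ I) = (v : WithBot ℕ∞))
    (hw : ringKrullDim (A ⧸ J) = (w : WithBot ℕ∞)) (hle : a ≤ v + w) :
    IsRegularLocalRing (A ⧸ I) ∧ IsRegularLocalRing (A ⧸ J) ∧
      ∃ (c : ℕ) (g : Fin c → A), I = Ideal.span (Set.range g) ∧ IsRegular A (List.ofFn g) := by
  classical
  obtain ⟨x, hx, hxspan⟩ := exists_adapted_generators I J h ha
  have hIm : I ≤ maximalIdeal A := h ▸ le_sup_left
  have hJm : J ≤ maximalIdeal A := h ▸ le_sup_right
  let s : Finset (Fin a) := Finset.univ.filter fun i => x i ∈ I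
  have key : ∀ (L : Ideal A) (t : Finset (Fin a)) (l : ℕ), L ≤ maximalIdeal A → (∀ i ∈ t, x i ∈ L) →
      ringKrullDim (A ⧸ L) = (l : WithBot ℕ∞) → l + t.card ≤ a := by
    intro L t l hL ht hl
    have h1 := (RegLocal.quot_span_image ha x hxspan t).2
    have hle' : Ideal.span (x '' (t : Set (Fin a))) ≤ L := Ideal.span_le.2 fun _ ⟨i, hi, e⟩ => e ▸ ht i hi
    have h2 := ringKrullDim_le_of_surjective (Ideal.Quotient.factor hle') (Ideal.Quotient.factor_surjective hle')
    rw [h1, hl] at h2
    have h3 : l ≤ a - t.card := by exact_mod_cast h2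
    have h4 := Finset.card_le_univ t
    rw [Fintype.card_fin] at h4
    omega
  have hs : ∀ i ∈ s, x i ∈ I := fun i hi => (Finset.mem_filter.1 hi).2
  have hsc : ∀ i ∈ sᶜ, x i ∈ J := fun i hi => (hx i).resolve_left fun h' => by
    rw [Finset.mem_compl] at hi
    exact hi (Finset.mem_filter.2 ⟨Finset.mem_univ _, h'⟩)
  have k1 := key I s v hIm hs hv
  have k2 := key J sᶜ w hJm hsc hw
  rw [Finset.card_compl, Fintype.card_fin] at k2
  have hsa := Finset.card_le_univ s
  rw [Fintype.card_fin] at hsa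
  obtain ⟨hreg, hdim⟩ := RegLocal.quot_span_image ha x hxspan s
  have hregL : ∀ (L : Ideal A) (t : Finset (Fin a)) (l : ℕ), L ≤ maximalIdeal A → (∀ i ∈ t, x i ∈ L) →
      ringKrullDim (A ⧸ L) = (l : WithBot ℕ∞) → a ≤ l + t.card → IsRegularLocalRing (A ⧸ L) := by
    intro L t l hL ht hl hal
    have hne : L ≠ ⊤ := ne_top_of_le_ne_top (maximalIdeal.isMaximal A).ne_top hL
    haveI := RegLocal.isLocalRing_quot hne
    refine IsRegularLocalRing.of_spanFinrank_maximalIdeal_le _ ?_
    have hgen : maximalIdeal (A ⧸ L) = Ideal.span ((Ideal.Quotient.mk L ∘ x) '' ((tᶜ : Finset _) : Set (Fin a))) := by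
      rw [RegLocal.maximalIdeal_quot hne, ← hxspan, Ideal.map_span, ← Set.range_comp]
      refine le_antisymm (Ideal.span_le.mpr ?_) (Ideal.span_mono (Set.image_subset_range _ _))
      rintro _ ⟨i, rfl⟩
      by_cases hi : i ∈ t
      · simp [Ideal.Quotient.eq_zero_iff_mem.mpr (ht i hi)]
      · exact Ideal.subset_span ⟨i, by simpa using hi, rfl⟩
    have h1 : (maximalIdeal (A ⧸ L)).spanFinrank ≤ a - t.card := by
      rw [hgen]
      refine (Submodule.spanFinrank_span_le_ncard_of_finite (Set.toFinite _)).trans ?_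
      refine (Set.ncard_image_le (Set.toFinite _)).trans ?_
      rw [Set.ncard_coe_finset, Finset.card_compl, Fintype.card_fin]
    rw [hl]
    exact_mod_cast (show (maximalIdeal (A ⧸ L)).spanFinrank ≤ l by omega)
  refine ⟨hregL I s v hIm hs hv (by omega), hregL J sᶜ w hJm hsc hw (by
    rw [Finset.card_compl, Fintype.card_fin]; omega), ?_⟩
  set P := Ideal.span (x '' (s : Set (Fin a))) with hP
  have hPI : P = I := by
    have hle' : P ≤ I := Ideal.span_le.2 fun _ ⟨i, hi, e⟩ => e ▸ hs i hi
    refine le_antisymm hle' ?_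
    intro z hz
    by_contra hzP
    haveI := hreg
    haveI : IsDomain (A ⧸ P) := RegLocal.isDomain _
    have hz0 : Ideal.Quotient.mk P z ≠ 0 := fun h0 => hzP (Ideal.Quotient.eq_zero_iff_mem.1 h0)
    have h1 : ringKrullDim ((A ⧸ P) ⧸ Ideal.span {Ideal.Quotient.mk P z}) + 1 ≤ ringKrullDim (A ⧸ P) :=
      ringKrullDim_quotient_succ_le_of_nonZeroDivisor (mem_nonZeroDivisors_iff_ne_zero.2 hz0)
    let φ : (A ⧸ P) ⧸ Ideal.span {Ideal.Quotient.mk P z} →+* A ⧸ I :=
      Ideal.Quotient.lift _ (Ideal.Quotient.factor hle') fun y hy => by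
        obtain ⟨b, rfl⟩ := Ideal.mem_span_singleton.1 hy
        rw [map_mul, Ideal.Quotient.factor_mk, Ideal.Quotient.eq_zero_iff_mem.2 hz, zero_mul]
    have hφ : Function.Surjective φ := fun y => by
      obtain ⟨y, rfl⟩ := Ideal.Quotient.mk_surjective y
      exact ⟨Ideal.Quotient.mk _ (Ideal.Quotient.mk P y), by simp [φ]⟩
    have h2 := ringKrullDim_le_of_surjective φ hφ
    rw [hv] at h2
    rw [hdim] at h1
    have h3 := (add_le_add_left h2 1).trans h1
    have h4 : v + 1 ≤ a - s.card := by exact_mod_cast h3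
    omega
  let e := s.equivFin.symm
  have hall := RegLocal.isRegular_of_generators A ha x hxspan
  let g : Fin s.card → A := fun i => x (e i)
  have hrange : Ideal.span (Set.range g) = P := by
    refine congrArg Ideal.span (Set.ext fun y => ⟨?_, ?_⟩)
    · rintro ⟨i, rfl⟩; exact ⟨_, (e i).2, rfl⟩
    · rintro ⟨i, hi, rfl⟩; exact ⟨e.symm ⟨i, hi⟩, by simp [g]⟩
  refine ⟨s.card, g, by rw [hrange, hPI], ?_⟩
  have hmem : ∀ r ∈ List.ofFn g, r ∈ maximalIdeal A := fun r hr => by
    obtain ⟨i, rfl⟩ := List.mem_ofFn.1 hr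
    exact hxspan ▸ Ideal.subset_span ⟨_, rfl⟩
  refine ⟨?_, ?_⟩
  · refine CMInterLib.isWeaklyRegular_of_supportDim_le _ A ?_ hmem ?_
    · haveI := RatliffLib.cm_of_regularLocal A
      have h1 := LocCoh.IsCohenMacaulayLocalRing.supportDim_eq_depth (R := A)
      exact h1
    · have e' : (A ⧸ (Ideal.ofList (List.ofFn g) • ⊤ : Submodule A A)) ≃ₗ[A] A ⧸ P :=
        Submodule.quotEquivOfEq _ _ (by rw [smul_eq_mul, Ideal.mul_top, ← span_range_eq_ofList, hrange])
      rw [Module.supportDim_eq_of_equiv e', Module.supportDim_quotient_eq_ringKrullDim,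
        Module.supportDim_self_eq_ringKrullDim, hdim, ha, List.length_ofFn]
      exact_mod_cast (show a - s.card + s.card ≤ a by omega)
  · rw [smul_eq_mul, Ideal.mul_top]
    exact fun h' => (maximalIdeal.isMaximal A).ne_top (top_le_iff.1 (h'.le.trans (Ideal.span_le.2 hmem)))

end Groth.Agent.IMultLib
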