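import Mathlib
import Groth.Agent.IMultLib.RegPair

/-!
# Multiplicities: Cohen–Macaulay pairs, transversal points and Samuel limits
-/

set_option autoImplicit false
set_option linter.style.haveILetI false

universe u

open CategoryTheory AlgebraicGeometry IsLocalRing RingTheory.Sequence Groth.Agent

noncomputable section

namespace Groth.Agent.IMultLib

variable {K : Type u} [Field K] {X : Scheme.{u}} (f : X ⟶ Spec (CommRingCat.of K)) [Smooth f] [IsIntegral X]
  (IV IW : X.IdealSheafData) [IsIntegral IV.subscheme] [IsIntegral IW.subscheme] (n r s : ℕ)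
  (hn : topologicalKrullDim X = n) (hr : topologicalKrullDim IV.support = r) (hs : topologicalKrullDim IW.support = s)
  (hprop : IntMult.ProperInt (IV.support : Set X) (IW.support : Set X) n r s) (ξ : X) (hξV : ξ ∈ IV.support)
  (hξW : ξ ∈ IW.support) (hmax : ∀ ξ' : X, ξ' ∈ IV.support → ξ' ∈ IW.support → ξ' ⤳ ξ → ξ' = ξ)

include f hn hr hs hprop hξV hξW hmax in
theorem mult_eq_length_cm (hV : LocCoh.IsCohenMacaulayLocalRing (↑(X.presheaf.stalk ξ) ⧸ IntMult.stalkIdeal IV ξ))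
    (hW : LocCoh.IsCohenMacaulayLocalRing (↑(X.presheaf.stalk ξ) ⧸ IntMult.stalkIdeal IW ξ)) :
    IntMult.mult IV IW ξ = ((Module.length (X.presheaf.stalk ξ)
      (↑(X.presheaf.stalk ξ) ⧸ (IntMult.stalkIdeal IV ξ ⊔ IntMult.stalkIdeal IW ξ))).toNat : ℤ) := by
  haveI := Groth.Agent.ASp.isRegularLocalRing_stalk_of_smooth_field f ξ
  obtain ⟨a, v, w, ha, hv, hw, hle⟩ := exists_dims f IV IW n r s hn hr hs hprop ξ hξV hξW
  exact chi_eq_length_of_cm _ _ (sup_radical IV IW ξ hξV hξW hmax) hV hW ha hv hw hle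

include f hn hr hs hprop hξV hξW hmax in
theorem mult_one (h1 : Module.length (X.presheaf.stalk ξ)
      (↑(X.presheaf.stalk ξ) ⧸ (IntMult.stalkIdeal IV ξ ⊔ IntMult.stalkIdeal IW ξ)) = 1) :
    IntMult.mult IV IW ξ = 1 ∧ IsRegularLocalRing (↑(X.presheaf.stalk ξ) ⧸ IntMult.stalkIdeal IV ξ) ∧
      IsRegularLocalRing (↑(X.presheaf.stalk ξ) ⧸ IntMult.stalkIdeal IW ξ) := by
  haveI := Groth.Agent.ASp.isRegularLocalRing_stalk_of_smooth_field f ξ
  obtain ⟨a, v, w, ha, hv, hw, hle⟩ := exists_dims f IV IW n r s hn hr hs hprop ξ hξV hξW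
  skip
  have hsimp : IsSimpleModule (X.presheaf.stalk ξ)
      (↑(X.presheaf.stalk ξ) ⧸ (IntMult.stalkIdeal IV ξ ⊔ IntMult.stalkIdeal IW ξ)) :=
    Module.length_eq_one_iff.1 h1
  have hm : (IntMult.stalkIdeal IV ξ ⊔ IntMult.stalkIdeal IW ξ).IsMaximal :=
    Ideal.isMaximal_def.2 (isSimpleModule_iff_isCoatom.1 hsimp)
  have hsup := IsLocalRing.eq_maximalIdeal hm
  obtain ⟨hV, hW, -⟩ := regular_pair _ _ hsup ha hv hw hle
  refine ⟨?_, hV, hW⟩
  haveI := hV
  haveI := hW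
  rw [mult_eq_length_cm f IV IW n r s hn hr hs hprop ξ hξV hξW hmax (RatliffLib.cm_of_regularLocal _)
    (RatliffLib.cm_of_regularLocal _), h1]
  rfl

include f hn hr hs hprop hξV hξW hmax in
theorem tendsto_mult (c : ℕ) (g : Fin c → ↑(X.presheaf.stalk ξ))
    (hg : IntMult.stalkIdeal IV ξ = Ideal.span (Set.range g))
    (hreg : IsRegular (↑(X.presheaf.stalk ξ)) (List.ofFn g)) :
    Filter.Tendsto (fun t : ℕ => (c.factorial : ℝ) * ((Module.length (X.presheaf.stalk ξ)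
        (↑(X.presheaf.stalk ξ) ⧸ (IntMult.stalkIdeal IW ξ ⊔ IntMult.stalkIdeal IV ξ ^ t))).toNat : ℝ) / (t : ℝ) ^ c)
      Filter.atTop (nhds (IntMult.mult IV IW ξ : ℝ)) ∧ 0 < IntMult.mult IV IW ξ := by
  haveI := isNoetherianRing_stalk f ξ
  obtain ⟨a, v, w, ha, hv, hw, hle⟩ := exists_dims f IV IW n r s hn hr hs hprop ξ hξV hξW
  haveI := (dims_subscheme f IW s hs ξ hξW).1
  have hrad := sup_radical IV IW ξ hξV hξW hmax
  have hm := IdealStalkLib.stalkIdeal_le_maximal IV hξV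
  rw [hg] at hrad hm hv
  rw [span_range_eq_ofList] at hv
  have hc := codim_eq hreg ha hv
  rw [List.length_ofFn] at hc
  have h := tendsto_and_pos g (IntMult.stalkIdeal IW ξ) hm (Ideal.IsPrime.ne_top inferInstance) hreg hrad hw (by omega)
  rw [IntMult.mult, hg]
  exact h

end Groth.Agent.IMultLib
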