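import Mathlib
import Groth.Agent.IMultLib.Final
import Groth.Agent.EtAlgEasy.ConormalStalk
import Groth.Agent.CycLib.ClosedPull
import Groth.Agent.DVRCrit.Local
import Groth.Agent.FlatDim.Trdeg
import Groth.Agent.GenIrredLib.EquidimQF
import Groth.Agent.S5090
import Groth.Prelude.Def_Cyc

/-!
# The coefficient of an intersection product at a point of multiplicity one
-/

set_option autoImplicit false
set_option linter.style.haveILetI false

universe u

open CategoryTheory CategoryTheory.Limits AlgebraicGeometry IsLocalRing Groth.Agent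

noncomputable section

namespace Groth.Agent.IMultLib

variable {K : Type u} [Field K] {X : Scheme.{u}} (f : X ⟶ Spec (CommRingCat.of K)) [LocallyOfFiniteType f]
  {δ : X → ℤ} (hδ : Cyc.DeltaCompat f δ (fun _ => 0))

include hδ in
theorem delta_facts (x : X) : ∃ t : ℕ, δ x = t ∧ DimFormulaLib.resTrdegAt f x = t ∧ Order.height x = t ∧
    topologicalKrullDim ↥(closure ({x} : Set X)) = (t : WithBot ℕ∞) := by
  obtain ⟨m, hm, hmδ⟩ := hδ x
  obtain ⟨a, t, -, ht, -, hh⟩ := DimFormulaLib.field_dims f x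
  have hmt : m = t := by exact_mod_cast (show (m : Cardinal.{u}) = t from hm.symm.trans ht)
  subst hmt
  refine ⟨m, by rw [hmδ, zero_add], ht, hh, ?_⟩
  rw [DimFormulaLib.topologicalKrullDim_closure_singleton, hh]
  rfl

theorem isIntegral_ptIdeal (x : X) : IsIntegral (IntMult.ptIdeal x).subscheme := by
  haveI : IsReduced (IntMult.ptIdeal x).subscheme := DVRCrit.isReduced_vanishingIdeal _
  have hemb := (IntMult.ptIdeal x).subschemeι.isClosedEmbedding
  have hrange : Set.range (IntMult.ptIdeal x).subschemeι = closure ({x} : Set X) := by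
    rw [Scheme.IdealSheafData.range_subschemeι, IntMult.ptIdeal, Scheme.IdealSheafData.coe_support_vanishingIdeal]
    rfl
  haveI : IrreducibleSpace ↥(closure ({x} : Set X)) := Subtype.irreducibleSpace isIrreducible_singleton.closure
  let e := hemb.isEmbedding.toHomeomorph.trans (Homeomorph.setCongr hrange)
  haveI : IrreducibleSpace ↥(IntMult.ptIdeal x).subscheme :=
    (irreducibleSpace_def _).2 (by
      have h := (IrreducibleSpace.isIrreducible_univ ↥(closure ({x} : Set X))).image e.symm e.symm.continuous.continuousOn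
      rwa [Set.image_univ, e.symm.surjective.range_eq] at h)
  exact isIntegral_of_irreducibleSpace_of_isReduced _

theorem coe_support_ptIdeal (x : X) : ((IntMult.ptIdeal x).support : Set X) = closure ({x} : Set X) := by
  rw [IntMult.ptIdeal, Scheme.IdealSheafData.coe_support_vanishingIdeal]
  rfl

include hδ in
theorem dims_ptIdeal (p τ : X) (h : p ⤳ τ) :
    (IntMult.stalkIdeal (IntMult.ptIdeal p) τ).IsPrime ∧ ∃ v : ℕ,
      ringKrullDim (X.presheaf.stalk τ ⧸ IntMult.stalkIdeal (IntMult.ptIdeal p) τ) = (v : WithBot ℕ∞) ∧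
        (v : ℤ) = δ p - δ τ := by
  haveI := isIntegral_ptIdeal p
  obtain ⟨tp, hp, -, -, hpc⟩ := delta_facts f hδ p
  obtain ⟨tτ, hτ, -, -, hτc⟩ := delta_facts f hδ τ
  have hsupp : topologicalKrullDim ↥(IntMult.ptIdeal p).support = (tp : WithBot ℕ∞) := by
    rw [← hpc]
    exact IsHomeomorph.topologicalKrullDim_eq _ (Homeomorph.setCongr (coe_support_ptIdeal p)).isHomeomorph
  obtain ⟨hprime, v, t, hv, ht, hvt⟩ := dims_subscheme f (IntMult.ptIdeal p) tp hsupp τ (by
    rw [← SetLike.mem_coe, coe_support_ptIdeal]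
    exact specializes_iff_mem_closure.1 h)
  have htt : t = tτ := by exact_mod_cast ht.symm.trans hτc
  exact ⟨hprime, v, hv, by omega⟩

theorem stalkIdeal_mono {I J : X.IdealSheafData} (h : I ≤ J) (x : X) :
    IntMult.stalkIdeal I x ≤ IntMult.stalkIdeal J x :=
  iSup₂_mono fun U _ => Ideal.map_mono (h U)

include hδ in
/-- The local ring of a closed subscheme of dimension at most `r`. -/
theorem dim_stalk_le {Y : Scheme.{u}} (ι : Y ⟶ X) [IsClosedImmersion ι] {r : ℤ} (hY : ∀ y : Y, δ (ι y) ≤ r) (y : Y) :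
    ∃ v : ℕ, ringKrullDim (Y.presheaf.stalk y) = (v : WithBot ℕ∞) ∧ (v : ℤ) ≤ r - δ (ι y) := by
  have hht : ∀ z : Y, (Order.height z : WithBot ℕ∞) ≤ ((r.toNat : ℕ) : WithBot ℕ∞) ∧ (Order.height z : ℕ∞) = (δ (ι z)).toNat := by
    intro z
    obtain ⟨t, ht, htr, -, -⟩ := delta_facts f hδ (ι z)
    obtain ⟨-, t', -, ht', -, hh'⟩ := DimFormulaLib.field_dims (ι ≫ f) z
    rw [FlatDim.resTrdegAt_comp, GenIrredLib.resTrdegAt_locallyQuasiFinite ι z, add_zero, htr] at ht'
    have htt : t = t' := by exact_mod_cast ht'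
    have h1 := hY z
    refine ⟨?_, by rw [hh', ← htt, ht]; rfl⟩
    rw [hh', ← htt]
    exact_mod_cast (show t ≤ r.toNat by omega)
  have hdim : topologicalKrullDim ↥Y ≤ ((r.toNat : ℕ) : WithBot ℕ∞) := by
    haveI : Nonempty ↥Y := ⟨y⟩
    have h1 : Order.krullDim ↥Y ≤ ((r.toNat : ℕ) : WithBot ℕ∞) := by
      rw [Order.krullDim_eq_iSup_height_of_nonempty]
      have : (⨆ z : ↥Y, Order.height z) ≤ ((r.toNat : ℕ) : ℕ∞) := iSup_le fun z => WithBot.coe_le_coe.1 (hht z).1
      exact WithBot.coe_le_coe.2 this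
    refine le_trans (le_of_eq ?_) h1
    exact Order.krullDim_eq_of_orderIso (irreducibleSetEquivPoints (α := ↥Y))
  obtain ⟨a, t, ha, -, hloc, hh⟩ := DimFormulaLib.field_dims (ι ≫ f) y
  refine ⟨a, ha, ?_⟩
  have h1 : FlatMor.localDim ↥Y y ≤ topologicalKrullDim ↥Y :=
    (iInf_le _ ⟨⊤, trivial⟩).trans (topologicalKrullDim_subspace_le _ _)
  rw [hloc] at h1
  have h2 : a + t ≤ r.toNat := by exact_mod_cast h1.trans hdim
  have h3 := (hht y).2
  rw [hh] at h3
  have h4 : t = (δ (ι y)).toNat := by exact_mod_cast h3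
  obtain ⟨t₀, ht₀, -⟩ := delta_facts f hδ (ι y)
  have := hY y
  omega

include hδ in
/-- Over a point where `Y` is regular of the maximal dimension there is a unique generic point, of multiplicity one. -/
theorem unique_component {Y : Scheme.{u}} (ι : Y ⟶ X) [IsClosedImmersion ι] {r : ℤ} (hY : ∀ y : Y, δ (ι y) ≤ r)
    (y : Y) [IsDomain (Y.presheaf.stalk y)] (p : X) (hp : Cyc.subschemeFun δ r ι p ≠ 0) (hpy : p ⤳ ι y) :
    Cyc.subschemeFun δ r ι p = 1 ∧ ∀ q : X, Cyc.subschemeFun δ r ι q ≠ 0 → q ⤳ ι y → q = p := by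
  classical
  let η : Y := Y.fromSpecStalk y ⟨⊥, Ideal.isPrime_bot⟩
  have hmem : ∀ q : X, Cyc.subschemeFun δ r ι q ≠ 0 → δ q = r ∧ ∃ z : Y, ι z = q := by
    intro q hq
    rw [Cyc.subschemeFun] at hq
    split_ifs at hq with h
    · refine ⟨h, ?_⟩
      by_contra hne
      push Not at hne
      refine hq (finsum_mem_of_eqOn_zero fun z hz => absurd hz (hne z))
    · exact absurd rfl hq
  have hgen : ∀ q : X, Cyc.subschemeFun δ r ι q ≠ 0 → q ⤳ ι y → q = ι η := by
    intro q hq hqy
    obtain ⟨hqr, z, rfl⟩ := hmem q hq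
    have hzy : z ⤳ y := ι.isClosedEmbedding.isInducing.specializes_iff.1 hqy
    have hzr : z ∈ Set.range (Y.fromSpecStalk y) := by rw [Scheme.range_fromSpecStalk]; exact hzy
    obtain ⟨P, hP⟩ := hzr
    have hηz : η ⤳ z := by
      rw [← hP]
      exact ((PrimeSpectrum.le_iff_specializes (⟨⊥, Ideal.isPrime_bot⟩ : PrimeSpectrum (Y.presheaf.stalk y)) P).1
        (bot_le (a := P.asIdeal))).map (Y.fromSpecStalk y).continuous
    have hηq : ι η ⤳ ι z := hηz.map ι.continuous
    by_contra hne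
    have hlt : ι z < ι η :=
      lt_iff_le_not_ge.2 ⟨Scheme.le_iff_specializes.2 hηq, fun h => hne
        ((Scheme.le_iff_specializes.1 h).antisymm hηq).eq⟩
    obtain ⟨tz, hz1, -, hz2, -⟩ := delta_facts f hδ (ι z)
    obtain ⟨te, he1, -, he2, -⟩ := delta_facts f hδ (ι η)
    have h1 := Order.height_add_one_le hlt
    rw [hz2, he2] at h1
    have h2 : tz + 1 ≤ te := by exact_mod_cast h1
    have := hY η
    omega
  refine ⟨?_, fun q hq hqy => (hgen q hq hqy).trans (hgen p hp hpy).symm⟩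
  obtain ⟨hpr, -⟩ := hmem p hp
  have hpη : p = ι η := hgen p hp hpy
  have hset : {z : Y | ι z = p} = {η} := Set.ext fun z =>
    ⟨fun hz => ι.isClosedEmbedding.injective (hz.trans hpη), fun hz => (congrArg ι hz).trans hpη.symm⟩
  rw [Cyc.subschemeFun, if_pos hpr, hset, finsum_mem_singleton]
  have hηy : η ⤳ y := by
    have h : η ∈ Set.range (Y.fromSpecStalk y) := ⟨_, rfl⟩
    rwa [Scheme.range_fromSpecStalk] at h
  letI := (Y.presheaf.stalkSpecializes hηy).hom.toAlgebra
  haveI := S5090.isLocalization_stalkSpecializes hηy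
  set P := (IsLocalRing.maximalIdeal (Y.presheaf.stalk η)).comap (Y.presheaf.stalkSpecializes hηy).hom with hP
  haveI : IsDomain (Y.presheaf.stalk η) :=
    IsLocalization.isDomain_of_le_nonZeroDivisors (Y.presheaf.stalk η) (Ideal.primeCompl_le_nonZeroDivisors P)
  haveI : Ring.KrullDimLE 0 (Y.presheaf.stalk η) := by
    refine Ring.krullDimLE_iff.2 (le_of_eq ?_)
    rw [AlgebraicGeometry.ringKrullDim_stalk_eq_coheight]
    have h0 : Order.coheight η = 0 := Order.coheight_eq_zero.2 fun w hw => by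
      have hw' : w ⤳ y := (Scheme.le_iff_specializes.1 hw).trans hηy
      have hwr : w ∈ Set.range (Y.fromSpecStalk y) := by rw [Scheme.range_fromSpecStalk]; exact hw'
      obtain ⟨Q, rfl⟩ := hwr
      exact Scheme.le_iff_specializes.2 (((PrimeSpectrum.le_iff_specializes
        (⟨⊥, Ideal.isPrime_bot⟩ : PrimeSpectrum (Y.presheaf.stalk y)) Q).1 (bot_le (a := Q.asIdeal))).map
        (Y.fromSpecStalk y).continuous)
    rw [h0]
    rfl
  have hF : IsField (Y.presheaf.stalk η) := Ring.KrullDimLE.isField_of_isDomain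
  letI := hF.toField
  haveI : IsSimpleModule (Y.presheaf.stalk η) (Y.presheaf.stalk η) := isSimpleModule_iff_finrank_eq_one.2 (by simp)
  rw [Module.length_eq_one_iff.2 inferInstance]
  rfl

end Groth.Agent.IMultLib
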