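import Groth.Agent.IMultLib.ProdPts
import Groth.Agent.CrossLib.Product
import Groth.Agent.BivarLib.ProperPush
import Groth.Agent.CycLib.SetupLft
import Groth.Agent.S10881

/-!
# The product of pullbacks from the factors is the exterior product
-/

set_option autoImplicit false
set_option backward.isDefEq.respectTransparency false
set_option linter.style.haveILetI false
set_option linter.unusedSectionVars false

universe u

open CategoryTheory CategoryTheory.Limits AlgebraicGeometry TopologicalSpace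

noncomputable section

namespace Groth.Agent.IMultLib

open CycLib BivarLib ClProdLib CrossLib

variable {K : Type u} [Field K] {X Y P : Scheme.{u}} [AlgebraicGeometry.IsIntegral X] [AlgebraicGeometry.IsIntegral Y]
  [AlgebraicGeometry.IsIntegral P] {f : X ⟶ Spec (CommRingCat.of K)} {g : Y ⟶ Spec (CommRingCat.of K)}
  [Smooth f] [Smooth g] [GeometricallyIntegral f] [GeometricallyIntegral g]
  {q₁ : P ⟶ X} {q₂ : P ⟶ Y} (sq : IsPullback q₁ q₂ f g)
  {δX : X → ℤ} {δY : Y → ℤ} {δ : P → ℤ} (hX : Cyc.DeltaCompat f δX (fun _ => 0)) (hY : Cyc.DeltaCompat g δY (fun _ => 0))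
  (hP : Cyc.DeltaCompat (q₁ ≫ f) δ (fun _ => 0)) (n m : ℕ) (hn : δX (genericPoint X) = n) (hm : δY (genericPoint Y) = m)

include sq hX hY hP hm in
theorem isShift_prodFst : IsShift q₁ δ δX m := by
  haveI : LocallyOfFiniteType q₁ := MorphismProperty.of_isPullback sq.flip (inferInstance : LocallyOfFiniteType g)
  haveI : Flat q₁ := MorphismProperty.of_isPullback sq.flip (inferInstance : Flat g)
  have hsX := isSetup_of_lft f (isSetup_spec_field K) hX
  have hsP := isSetup_of_lft (q₁ ≫ f) (isSetup_spec_field K) hP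
  haveI := hsX.1
  have hg : IsShift g δY (fun _ => (0 : ℤ)) m := fun y hy => by
    rw [← hy (genericPoint Y) (Subsingleton.elim _ _) (genericPoint_specializes y), hm]
    simp
  exact IsShift.of_relDim hsP hsX m (BivarLib.hasRelDim_baseChange sq.flip m (hasRelDim_of_isShift hg hY))
    (deltaCompat_of_comp q₁ f hP hX)

include sq hX hY hP hn hm in
theorem interProd_pull_eq {r s : ℤ} (α : AlgebraicCycle X ℤ) (β : AlgebraicCycle Y ℤ)
    (hα : α ∈ Cyc.Zk X δX r) (hβ : β ∈ Cyc.Zk Y δY s) :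
    IntMult.IntersectProperly δ (n + m) (Cyc.pullFun q₁ δ δX m ⇑α) (Cyc.pullFun q₂ δ δY n ⇑β) ∧
      ∀ ζ, IntMult.interProd δ (n + m) (Cyc.pullFun q₁ δ δX m ⇑α) (Cyc.pullFun q₂ δ δY n ⇑β) ζ =
        if δ ζ = δX (q₁ ζ) + δY (q₂ ζ) then α (q₁ ζ) * β (q₂ ζ) *
          ((Module.length (P.presheaf.stalk ζ) (P.presheaf.stalk ζ ⧸ (fibIdeal q₁ ζ ⊔ fibIdeal q₂ ζ))).toNat : ℤ)
        else 0 := by
  classical
  haveI : Smooth q₁ := MorphismProperty.of_isPullback sq.flip (inferInstance : Smooth g)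
  haveI : Smooth q₂ := MorphismProperty.of_isPullback sq (inferInstance : Smooth f)
  haveI : GeometricallyIntegral q₁ := MorphismProperty.of_isPullback sq.flip (inferInstance : GeometricallyIntegral g)
  haveI : GeometricallyIntegral q₂ := MorphismProperty.of_isPullback sq (inferInstance : GeometricallyIntegral f)
  have hP₂ : Cyc.DeltaCompat (q₂ ≫ g) δ (fun _ => 0) := sq.w ▸ hP
  have hsh₁ : IsShift q₁ δ δX m := isShift_prodFst sq hX hY hP m hm
  have hsh₂ : IsShift q₂ δ δY n := isShift_prodFst sq.flip hY hX hP₂ n hn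
  have hc₁ : Cyc.DeltaCompat q₁ δ δX := deltaCompat_of_comp q₁ f hP hX
  have hle : ∀ t, δ t ≤ δX (q₁ t) + δY (q₂ t) := CrossLib.delta_le_add f g q₁ q₂ sq δX δY δ hX hY hc₁
  have hsX := isSetup_of_lft f (isSetup_spec_field K) hX
  have hsY := isSetup_of_lft g (isSetup_spec_field K) hY
  have hsP := isSetup_of_lft (q₁ ≫ f) (isSetup_spec_field K) hP
  haveI := hsP.1
  have supp₁ : ∀ a, Cyc.pullFun q₁ δ δX m ⇑α a ≠ 0 → δX (q₁ a) = r ∧ δ a = r + m ∧ a = fibGen q₁ (q₁ a) := fun a ha => by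
    rw [pullFun_apply] at ha
    split_ifs at ha with h
    · have h1 : δX (q₁ a) = r := by_contra fun e => ha (by rw [hα _ e, zero_mul])
      exact ⟨h1, by omega, eq_fibGen q₁ (hsh₁.maxFib_of_eq hsP.2.2 h)⟩
    · exact absurd rfl ha
  have supp₂ : ∀ b, Cyc.pullFun q₂ δ δY n ⇑β b ≠ 0 → δY (q₂ b) = s ∧ δ b = s + n ∧ b = fibGen q₂ (q₂ b) := fun b hb => by
    rw [pullFun_apply] at hb
    split_ifs at hb with h
    · have h1 : δY (q₂ b) = s := by_contra fun e => hb (by rw [hβ _ e, zero_mul])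
      exact ⟨h1, by omega, eq_fibGen q₂ (hsh₂.maxFib_of_eq hsP.2.2 h)⟩
    · exact absurd rfl hb
  have hbound : ∀ a b z, δX (q₁ a) = r → δY (q₂ b) = s → a ⤳ z → b ⤳ z →
      δ z ≤ r + s ∧ (δ z = r + s → q₁ a = q₁ z ∧ q₂ b = q₂ z) := fun a b z ha hb haz hbz => by
    have h0 := hle z
    have h1 := delta_le hsX.2.2 (haz.map q₁.continuous)
    have h2 := delta_le hsY.2.2 (hbz.map q₂.continuous)
    refine ⟨by omega, fun e => ⟨?_, ?_⟩⟩ <;> by_contra hne
    · have := (hsX.2.2 _ _ (haz.map q₁.continuous) hne).1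
      omega
    · have := (hsY.2.2 _ _ (hbz.map q₂.continuous) hne).1
      omega
  refine ⟨fun a b z ha hb haz hbz => ?_, fun ζ => ?_⟩
  · obtain ⟨h1, h2, -⟩ := supp₁ a ha
    obtain ⟨h3, h4, -⟩ := supp₂ b hb
    have := (hbound a b z h1 h3 haz hbz).1
    omega
  by_cases hgood : δ ζ = r + s ∧ δX (q₁ ζ) = r ∧ δY (q₂ ζ) = s
  · obtain ⟨hζ, hxr, hys⟩ := hgood
    set a := fibGen q₁ (q₁ ζ) with ha
    set b := fibGen q₂ (q₂ ζ) with hb
    have haζ : a ⤳ ζ := specializes_fibGen q₁ ζ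
    have hbζ : b ⤳ ζ := specializes_fibGen q₂ ζ
    have hqa : q₁ a = q₁ ζ := apply_fibGen q₁ _
    have hqb : q₂ b = q₂ ζ := apply_fibGen q₂ _
    have hδa : δ a = r + m := by rw [hsh₁ a (maxFib_fibGen q₁ _), hqa, hxr]
    have hδb : δ b = s + n := by rw [hsh₂ b (maxFib_fibGen q₂ _), hqb, hys]
    have hαa : Cyc.pullFun q₁ δ δX m ⇑α a = α (q₁ ζ) := by
      rw [pullFun_apply, if_pos (by rw [hδa, hqa, hxr]), length_fibIdeal_eq_one q₁ (maxFib_fibGen q₁ _), hqa]
      simp
    have hβb : Cyc.pullFun q₂ δ δY n ⇑β b = β (q₂ ζ) := by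
      rw [pullFun_apply, if_pos (by rw [hδb, hqb, hys]), length_fibIdeal_eq_one q₂ (maxFib_fibGen q₂ _), hqb]
      simp
    have hI₁ := stalkIdeal_ptIdeal_fibGen q₁ ζ
    have hI₂ := stalkIdeal_ptIdeal_fibGen q₂ ζ
    haveI := isIntegral_ptIdeal a
    haveI := isIntegral_ptIdeal b
    obtain ⟨N, hN, hNt, -, -⟩ := delta_facts (q₁ ≫ f) hP (genericPoint P)
    have hdimP : topologicalKrullDim ↥P = (N : WithBot ℕ∞) := DimFormulaLib.topologicalKrullDim_eq_trdeg (q₁ ≫ f) N hNt
    have hNnm : N = n + m := by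
      haveI : Flat q₁ := inferInstance
      obtain ⟨w, hw, hwe⟩ := Flat.generalizingMap (f := q₁) (genericPoint_specializes (q₁ (genericPoint P)))
      have hq : q₁ (genericPoint P) = genericPoint X := by
        rw [← hwe, (hw.antisymm (genericPoint_specializes w)).eq]
      have := hsh₁ (genericPoint P) fun v _ hv => (hv.antisymm (genericPoint_specializes v)).eq
      rw [hq, hn, hN] at this
      omega
    obtain ⟨ta, hta, -, -, hca⟩ := delta_facts (q₁ ≫ f) hP a
    obtain ⟨tb, htb, -, -, hcb⟩ := delta_facts (q₁ ≫ f) hP b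
    have hda : topologicalKrullDim (IntMult.ptIdeal a).support = (ta : WithBot ℕ∞) := by
      rw [← hca]
      exact IsHomeomorph.topologicalKrullDim_eq _ (Homeomorph.setCongr (coe_support_ptIdeal a)).isHomeomorph
    have hdb : topologicalKrullDim (IntMult.ptIdeal b).support = (tb : WithBot ℕ∞) := by
      rw [← hcb]
      exact IsHomeomorph.topologicalKrullDim_eq _ (Homeomorph.setCongr (coe_support_ptIdeal b)).isHomeomorph
    have hbnd : ∀ z, a ⤳ z → b ⤳ z → δ z ≤ r + s := fun z haz hbz =>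
      (hbound a b z (by rw [hqa, hxr]) (by rw [hqb, hys]) haz hbz).1
    have hprop : IntMult.ProperInt ((IntMult.ptIdeal a).support : Set P) ((IntMult.ptIdeal b).support : Set P)
        N ta tb := fun _ => by
      obtain ⟨t, ht, -, -, -⟩ := delta_facts (q₁ ≫ f) hP ζ
      refine ⟨by omega, ?_⟩
      rw [coe_support_ptIdeal, coe_support_ptIdeal]
      have hcl : IsClosed (closure ({a} : Set P) ∩ closure {b}) := isClosed_closure.inter isClosed_closure
      haveI : QuasiSober ↥(closure ({a} : Set P) ∩ closure {b}) :=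
        hcl.isClosedEmbedding_subtypeVal.quasiSober
      refine OpenDim.topologicalKrullDim_le_of_trd (f := q₁ ≫ f) (y := (q₁ ≫ f) ζ) Topology.IsEmbedding.subtypeVal
        (fun _ => Subsingleton.elim _ _) fun w => ?_
      obtain ⟨t', ht', htr, -, -⟩ := delta_facts (q₁ ≫ f) hP w.1
      rw [OpenDim.resTrdegAt_eq_trd, Nat.cast_inj] at htr
      have := hbnd w.1 (specializes_iff_mem_closure.2 w.2.1) (specializes_iff_mem_closure.2 w.2.2)
      rw [htr]
      exact_mod_cast (show t' ≤ ta + tb - N by omega)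
    have hmax : ∀ z : P, z ∈ (IntMult.ptIdeal a).support → z ∈ (IntMult.ptIdeal b).support → z ⤳ ζ → z = ζ := by
      intro z hza hzb hz
      rw [← SetLike.mem_coe, coe_support_ptIdeal, ← specializes_iff_mem_closure] at hza hzb
      by_contra hne
      have := (hsP.2.2 z ζ hz hne).1
      have := hbnd z hza hzb
      omega
    have hcm₁ : LocCoh.IsCohenMacaulayLocalRing (↑(P.presheaf.stalk ζ) ⧸ IntMult.stalkIdeal (IntMult.ptIdeal a) ζ) := by
      rw [hI₁]
      haveI := regular_fibIdeal q₁ ζ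
      exact S10881.cm_of_regular _
    have hcm₂ : LocCoh.IsCohenMacaulayLocalRing (↑(P.presheaf.stalk ζ) ⧸ IntMult.stalkIdeal (IntMult.ptIdeal b) ζ) := by
      rw [hI₂]
      haveI := regular_fibIdeal q₂ ζ
      exact S10881.cm_of_regular _
    have hmult := mult_eq_length_cm (q₁ ≫ f) (IntMult.ptIdeal a) (IntMult.ptIdeal b) N ta tb hdimP hda hdb hprop ζ
      (by rw [← SetLike.mem_coe, coe_support_ptIdeal]; exact specializes_iff_mem_closure.1 haζ)
      (by rw [← SetLike.mem_coe, coe_support_ptIdeal]; exact specializes_iff_mem_closure.1 hbζ) hmax hcm₁ hcm₂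
    rw [hI₁, hI₂] at hmult
    rw [IntMult.interProd, finsum_eq_single _ ⟨(a, b), haζ, hbζ, by rw [hδa, hδb, hζ]; ring⟩ ?_,
      if_pos (by rw [hxr, hys, hζ])]
    · show _ * _ * IntMult.mult _ _ _ = _
      rw [hαa, hβb, hmult]
    · rintro ⟨⟨a', b'⟩, h1, h2, h3⟩ hne
      by_contra h0
      simp only [mul_eq_zero, not_or] at h0
      obtain ⟨hx, hd, he⟩ := supp₁ a' h0.1.1
      obtain ⟨hy, hd', he'⟩ := supp₂ b' h0.1.2
      obtain ⟨e1, e2⟩ := (hbound a' b' ζ hx hy h1 h2).2 hζ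
      rw [e1] at he
      rw [e2] at he'
      subst he
      subst he'
      exact hne rfl
  · rw [IntMult.interProd, finsum_eq_zero_of_forall_eq_zero ?_]
    · split_ifs with h
      · symm
        by_cases h1 : δX (q₁ ζ) = r
        · rw [hβ _ fun h2 => hgood ⟨by omega, h1, h2⟩]
          simp
        · rw [hα _ h1]
          simp
      · rfl
    · rintro ⟨⟨a', b'⟩, h1, h2, h3⟩
      by_contra h0
      simp only [mul_eq_zero, not_or] at h0
      obtain ⟨hx, hd, -⟩ := supp₁ a' h0.1.1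
      obtain ⟨hy, hd', -⟩ := supp₂ b' h0.1.2
      have hz : δ ζ = r + s := by change δ a' + δ b' - ((n : ℤ) + m) = δ ζ at h3; omega
      obtain ⟨e1, e2⟩ := (hbound a' b' ζ hx hy h1 h2).2 hz
      rw [e1] at hx
      rw [e2] at hy
      exact hgood ⟨hz, hx, hy⟩

end Groth.Agent.IMultLib
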