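import Mathlib
import Groth.Agent.IMultLib.MultOne
import Groth.Agent.CycLib.ClosedPull

/-!
# Intersection products at a point of multiplicity one
-/

set_option autoImplicit false
set_option linter.style.haveILetI false
set_option backward.isDefEq.respectTransparency false

universe u

open CategoryTheory CategoryTheory.Limits AlgebraicGeometry IsLocalRing Groth.Agent

noncomputable section

namespace Groth.Agent.IMultLib

variable {X Y : Scheme.{u}} (ι : Y ⟶ X) [IsClosedImmersion ι]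

theorem nonempty_quot_equiv_stalk (y : Y) (x : X) (hx : ι y = x) :
    Nonempty ((X.presheaf.stalk x ⧸ IntMult.stalkIdeal ι.ker x) ≃+* Y.presheaf.stalk y) := by
  subst hx
  rw [EtAlgEasy.ConormalStalk.stalkIdeal_ker]
  exact ⟨RingHom.quotientKerEquivOfSurjective (ι.stalkMap_surjective y)⟩

theorem map_specializes_ker (y : Y) (x : X) (hx : ι y = x) (e : x ⤳ ι y) :
    (RingHom.ker (ι.stalkMap y).hom).map (X.presheaf.stalkSpecializes e).hom = IntMult.stalkIdeal ι.ker x := by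
  subst hx
  rw [TopCat.Presheaf.stalkSpecializes_refl, CommRingCat.hom_id, Ideal.map_id, EtAlgEasy.ConormalStalk.stalkIdeal_ker]

omit [IsClosedImmersion ι] in
theorem ker_le_ptIdeal (p : X) (hp : closure ({p} : Set X) ⊆ Set.range ι) [IsClosedImmersion ι] :
    ι.ker ≤ IntMult.ptIdeal p := by
  rw [IntMult.ptIdeal, ← Scheme.IdealSheafData.le_support_iff_le_vanishingIdeal, ← SetLike.coe_subset_coe,
    Scheme.Hom.support_ker]
  exact hp.trans subset_closure

theorem mem_of_subschemeFun_ne_zero {δ : X → ℤ} {r : ℤ} {q : X} (hq : Cyc.subschemeFun δ r ι q ≠ 0) :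
    δ q = r ∧ q ∈ Set.range ι := by
  classical
  rw [Cyc.subschemeFun] at hq
  split_ifs at hq with h
  · refine ⟨h, ?_⟩
    by_contra hne
    exact hq (finsum_mem_of_eqOn_zero fun z hz => absurd ⟨z, hz⟩ hne)
  · exact absurd rfl hq

end Groth.Agent.IMultLib

namespace Groth.Agent.IMultLib

theorem interProd_eq_one {K : Type u} [Field K] {X : Scheme.{u}} (f : X ⟶ Spec (CommRingCat.of K)) [Smooth f]
    [IsIntegral X] {δ : X → ℤ} (hδ : Cyc.DeltaCompat f δ (fun _ => 0)) {n : ℤ} (hn : δ (genericPoint X) = n)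
    {Y Z : Scheme.{u}} (ιY : Y ⟶ X) (ιZ : Z ⟶ X) [IsClosedImmersion ιY] [IsClosedImmersion ιZ] {r s : ℤ}
    (hY : ∀ y : Y, δ (ιY y) ≤ r) (hZ : ∀ z : Z, δ (ιZ z) ≤ s) (τ : X) (hτ : δ τ = r + s - n)
    (hξ : ∃ ξ η : X, Cyc.subschemeFun δ r ιY ξ ≠ 0 ∧ Cyc.subschemeFun δ s ιZ η ≠ 0 ∧ ξ ⤳ τ ∧ η ⤳ τ)
    (hmult : Cyc.subschemeFun δ (r + s - n) (pullback.fst ιY ιZ ≫ ιY) τ = 1) :
    IntMult.interProd δ n (Cyc.subschemeFun δ r ιY) (Cyc.subschemeFun δ s ιZ) τ = 1 ∧
      (∀ y : Y, ιY y = τ → IsRegularLocalRing (Y.presheaf.stalk y)) ∧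
      (∀ z : Z, ιZ z = τ → IsRegularLocalRing (Z.presheaf.stalk z)) := by
  classical
  haveI := Groth.Agent.ASp.isRegularLocalRing_stalk_of_smooth_field f τ
  obtain ⟨ξ, η, hξ0, hη0, hξτ, hητ⟩ := hξ
  obtain ⟨hξr, hξY⟩ := mem_of_subschemeFun_ne_zero ιY hξ0
  obtain ⟨hηs, hηZ⟩ := mem_of_subschemeFun_ne_zero ιZ hη0
  let j := pullback.fst ιY ιZ ≫ ιY
  have hsub : ∀ z₁ z₂ : ↥(pullback ιY ιZ), j z₁ = j z₂ → z₁ = z₂ := fun z₁ z₂ h => j.isClosedEmbedding.injective h
  obtain ⟨z, hz⟩ : ∃ z, j z = τ := by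
    by_contra hne
    push Not at hne
    have hempty : {z' : ↥(pullback ιY ιZ) | (pullback.fst ιY ιZ ≫ ιY) z' = τ} = ∅ :=
      Set.eq_empty_of_forall_notMem fun z' hz' => hne z' hz'
    rw [Cyc.subschemeFun, if_pos hτ, hempty, finsum_mem_empty] at hmult
    exact zero_ne_one hmult
  have hlen : Module.length ((pullback ιY ιZ).presheaf.stalk z) ((pullback ιY ιZ).presheaf.stalk z) = 1 := by
    have hset : {z' | j z' = τ} = {z} := Set.ext fun z' => ⟨fun h => hsub _ _ (h.trans hz.symm), fun h => (congrArg j h).trans hz⟩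
    rw [Cyc.subschemeFun, if_pos hτ, hset, finsum_mem_singleton] at hmult
    have h1 : (Module.length ((pullback ιY ιZ).presheaf.stalk z) ((pullback ιY ιZ).presheaf.stalk z)).toNat = 1 := by
      exact_mod_cast hmult
    exact (ENat.toNat_eq_iff one_ne_zero).1 h1
  set y := pullback.fst ιY ιZ z with hydef
  set w := pullback.snd ιY ιZ z with hwdef
  have hyτ : ιY y = τ := by rw [hydef, ← Scheme.Hom.comp_apply]; exact hz
  have hwτ : ιZ w = τ := by
    rw [hwdef, ← Scheme.Hom.comp_apply, ← pullback.condition]; exact hz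
  subst hwτ
  set IY := IntMult.stalkIdeal ιY.ker (ιZ w) with hIY
  set IZ := IntMult.stalkIdeal ιZ.ker (ιZ w) with hIZ
  have e : ιZ w ⤳ ιY y := specializes_of_eq hyτ.symm
  have hker : RingHom.ker ((pullback.snd ιY ιZ ≫ ιZ).stalkMap z).hom = IY ⊔ IZ := by
    rw [Scheme.Hom.stalkMap_comp, CommRingCat.hom_comp, ← RingHom.comap_ker, CycLib.ker_stalkMap_snd ιZ ιY z e,
      CommRingCat.hom_comp, ← Ideal.map_map, map_specializes_ker ιY y _ hyτ e,
      Ideal.comap_map_of_surjective _ (ιZ.stalkMap_surjective w), ← RingHom.ker_eq_comap_bot,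
      ← EtAlgEasy.ConormalStalk.stalkIdeal_ker ιZ w]
  have hsurj : Function.Surjective ((pullback.snd ιY ιZ ≫ ιZ).stalkMap z).hom :=
    (pullback.snd ιY ιZ ≫ ιZ).stalkMap_surjective z
  have hfield : IsField ((pullback ιY ιZ).presheaf.stalk z) := by
    haveI := Module.length_eq_one_iff.1 hlen
    haveI : Nontrivial ((pullback ιY ιZ).presheaf.stalk z) := inferInstance
    exact Ring.isField_iff_maximal_bot.2 (Ideal.isMaximal_def.2 (isSimpleModule_iff_isCoatom.1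
      (IsSimpleModule.congr (Submodule.quotEquivOfEqBot (⊥ : Submodule ((pullback ιY ιZ).presheaf.stalk z)
        ((pullback ιY ιZ).presheaf.stalk z)) rfl))))
  have hsup : IY ⊔ IZ = maximalIdeal (X.presheaf.stalk (ιZ w)) := by
    rw [← hker]
    refine IsLocalRing.eq_maximalIdeal ?_
    rw [RingHom.ker_eq_comap_bot]
    haveI := Ring.isField_iff_maximal_bot.1 hfield
    exact Ideal.comap_isMaximal_of_surjective _ hsurj
  obtain ⟨hPprime, vP, hvP, hvPd⟩ := dims_ptIdeal f hδ ξ (ιZ w) hξτ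
  obtain ⟨hQprime, vQ, hvQ, hvQd⟩ := dims_ptIdeal f hδ η (ιZ w) hητ
  obtain ⟨a, t, ha, htc, hat⟩ : ∃ a t : ℕ, ringKrullDim (X.presheaf.stalk (ιZ w)) = (a : WithBot ℕ∞) ∧
      δ (ιZ w) = t ∧ ((a + t : ℕ) : ℤ) = n := by
    obtain ⟨tg, hg1, hg2, -, hg4⟩ := delta_facts f hδ (genericPoint X)
    have hdimX : topologicalKrullDim ↥X = (tg : WithBot ℕ∞) := DimFormulaLib.topologicalKrullDim_eq_trdeg f tg hg2
    obtain ⟨a, t, ha, ht, hat⟩ := dims_point f tg hdimX (ιZ w)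
    obtain ⟨t', ht', -, -, ht'c⟩ := delta_facts f hδ (ιZ w)
    have htt : t = t' := by exact_mod_cast ht.symm.trans ht'c
    exact ⟨a, t', ha, ht', by rw [← hn, hg1]; exact_mod_cast (show a + t' = tg by omega)⟩
  have hIYle : ∀ p : X, Cyc.subschemeFun δ r ιY p ≠ 0 → IY ≤ IntMult.stalkIdeal (IntMult.ptIdeal p) (ιZ w) := fun p hp =>
    stalkIdeal_mono (ker_le_ptIdeal ιY p (closure_minimal
      (Set.singleton_subset_iff.2 (mem_of_subschemeFun_ne_zero ιY hp).2) ιY.isClosedEmbedding.isClosed_range)) _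
  have hIZle : ∀ p : X, Cyc.subschemeFun δ s ιZ p ≠ 0 → IZ ≤ IntMult.stalkIdeal (IntMult.ptIdeal p) (ιZ w) := fun p hp =>
    stalkIdeal_mono (ker_le_ptIdeal ιZ p (closure_minimal
      (Set.singleton_subset_iff.2 (mem_of_subschemeFun_ne_zero ιZ hp).2) ιZ.isClosedEmbedding.isClosed_range)) _
  obtain ⟨v, hv, hvle⟩ := dim_stalk_le f hδ ιY hY y
  obtain ⟨v', hv', hv'le⟩ := dim_stalk_le f hδ ιZ hZ w
  obtain ⟨eY⟩ := nonempty_quot_equiv_stalk ιY y (ιZ w) hyτ
  obtain ⟨eZ⟩ := nonempty_quot_equiv_stalk ιZ w (ιZ w) rfl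
  rw [← ringKrullDim_eq_of_ringEquiv eY] at hv
  rw [← ringKrullDim_eq_of_ringEquiv eZ] at hv'
  rw [hyτ] at hvle
  have hge : vP ≤ v := by
    have h := ringKrullDim_le_of_surjective (Ideal.Quotient.factor (hIYle ξ hξ0)) (Ideal.Quotient.factor_surjective _)
    rw [hv, hvP] at h
    exact_mod_cast h
  have hge' : vQ ≤ v' := by
    have h := ringKrullDim_le_of_surjective (Ideal.Quotient.factor (hIZle η hη0)) (Ideal.Quotient.factor_surjective _)
    rw [hv', hvQ] at h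
    exact_mod_cast h
  have hle : a ≤ v + v' := by omega
  obtain ⟨hRY, hRZ, -⟩ := regular_pair IY IZ hsup ha hv hv' hle
  haveI := hRY
  haveI := hRZ
  haveI : IsRegularLocalRing (Y.presheaf.stalk y) := IsRegularLocalRing.of_ringEquiv eY
  haveI : IsRegularLocalRing (Z.presheaf.stalk w) := IsRegularLocalRing.of_ringEquiv eZ
  refine ⟨?_, fun y' hy' => ?_, fun w' hw' => ?_⟩
  rotate_left
  · obtain rfl : y' = y := ιY.isClosedEmbedding.injective (hy'.trans hyτ.symm)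
    infer_instance
  · obtain rfl : w' = w := ιZ.isClosedEmbedding.injective hw'
    infer_instance
  haveI : IsDomain (Y.presheaf.stalk y) := RegLocal.isDomain _
  haveI : IsDomain (Z.presheaf.stalk w) := RegLocal.isDomain _
  obtain ⟨hα, huY⟩ := unique_component f hδ ιY hY y ξ hξ0 (by rw [hyτ]; exact hξτ)
  obtain ⟨hβ, huZ⟩ := unique_component f hδ ιZ hZ w η hη0 hητ
  haveI : IsDomain (X.presheaf.stalk (ιZ w) ⧸ IY) := RegLocal.isDomain _
  haveI : IsDomain (X.presheaf.stalk (ιZ w) ⧸ IZ) := RegLocal.isDomain _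
  have heq : ∀ (I P : Ideal (X.presheaf.stalk (ιZ w))) [IsDomain (X.presheaf.stalk (ιZ w) ⧸ I)] (m m' : ℕ), I ≤ P →
      ringKrullDim (X.presheaf.stalk (ιZ w) ⧸ I) = (m : WithBot ℕ∞) →
      ringKrullDim (X.presheaf.stalk (ιZ w) ⧸ P) = (m' : WithBot ℕ∞) → m ≤ m' → I = P := by
    intro I P _ m m' hIP hm hm' hmm
    refine le_antisymm hIP fun z hz => ?_
    by_contra hzI
    have hz0 : Ideal.Quotient.mk I z ≠ 0 := fun h0 => hzI (Ideal.Quotient.eq_zero_iff_mem.1 h0)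
    have h1 := ringKrullDim_quotient_succ_le_of_nonZeroDivisor (mem_nonZeroDivisors_iff_ne_zero.2 hz0)
    let φ : (X.presheaf.stalk (ιZ w) ⧸ I) ⧸ Ideal.span {Ideal.Quotient.mk I z} →+* X.presheaf.stalk (ιZ w) ⧸ P :=
      Ideal.Quotient.lift _ (Ideal.Quotient.factor hIP) fun b hb => by
        obtain ⟨b', rfl⟩ := Ideal.mem_span_singleton.1 hb
        rw [map_mul, Ideal.Quotient.factor_mk, Ideal.Quotient.eq_zero_iff_mem.2 hz, zero_mul]
    have hφ : Function.Surjective φ := fun b => by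
      obtain ⟨b, rfl⟩ := Ideal.Quotient.mk_surjective b
      exact ⟨Ideal.Quotient.mk _ (Ideal.Quotient.mk I b), by simp [φ]⟩
    have h2 := ringKrullDim_le_of_surjective φ hφ
    rw [hm'] at h2
    rw [hm] at h1
    have h3 : m' + 1 ≤ m := by exact_mod_cast (add_le_add_left h2 1).trans h1
    omega
  have hPY : IntMult.stalkIdeal (IntMult.ptIdeal ξ) (ιZ w) = IY := (heq IY _ v vP (hIYle ξ hξ0) hv hvP (by omega)).symm
  have hQZ : IntMult.stalkIdeal (IntMult.ptIdeal η) (ιZ w) = IZ := (heq IZ _ v' vQ (hIZle η hη0) hv' hvQ (by omega)).symm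
  have hcoef : δ ξ + δ η - n = δ (ιZ w) := by omega
  have hsingle : IntMult.interProd δ n (Cyc.subschemeFun δ r ιY) (Cyc.subschemeFun δ s ιZ) (ιZ w) =
      Cyc.subschemeFun δ r ιY ξ * Cyc.subschemeFun δ s ιZ η *
        IntMult.mult (IntMult.ptIdeal ξ) (IntMult.ptIdeal η) (ιZ w) := by
    refine finsum_eq_single (fun p : {p : X × X // p.1 ⤳ ιZ w ∧ p.2 ⤳ ιZ w ∧ δ p.1 + δ p.2 - n = δ (ιZ w)} =>
      Cyc.subschemeFun δ r ιY p.1.1 * Cyc.subschemeFun δ s ιZ p.1.2 *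
        IntMult.mult (IntMult.ptIdeal p.1.1) (IntMult.ptIdeal p.1.2) (ιZ w)) ⟨(ξ, η), hξτ, hητ, hcoef⟩ ?_
    rintro ⟨⟨p, q⟩, hp, hq, hpq⟩ hne
    by_contra h0
    simp only [mul_eq_zero, not_or] at h0
    have h1 := huY p h0.1.1 (by rw [hyτ]; exact hp)
    have h2 := huZ q h0.1.2 hq
    subst h1
    subst h2
    exact hne rfl
  rw [hsingle, hα, hβ, one_mul, one_mul, IntMult.mult, hPY, hQZ,
    chi_eq_length_of_cm IY IZ (by rw [hsup]; exact Ideal.IsPrime.radical inferInstance)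
      (RatliffLib.cm_of_regularLocal _) (RatliffLib.cm_of_regularLocal _) ha hv hv' hle, hsup]
  haveI : IsSimpleModule (X.presheaf.stalk (ιZ w)) (X.presheaf.stalk (ιZ w) ⧸ maximalIdeal (X.presheaf.stalk (ιZ w))) :=
    isSimpleModule_iff_isCoatom.2 (Ideal.isMaximal_def.1 inferInstance)
  rw [Module.length_eq_one_iff.2 inferInstance]
  rfl

end Groth.Agent.IMultLib
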