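import Groth.Agent.IMultLib.Final
import Groth.Agent.IMultLib.MultOne
import Groth.Agent.ClProdLib.Fibre
import Groth.Agent.OpenDim.Dims
import Groth.Agent.ASp.GeomRedEt
import Groth.Agent.S9501

/-!
# Ideals of closures of generic points of smooth integral fibres
-/

set_option autoImplicit false
set_option backward.isDefEq.respectTransparency false
set_option linter.style.haveILetI false
set_option linter.unusedSectionVars false

universe u

open CategoryTheory CategoryTheory.Limits AlgebraicGeometry TopologicalSpace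

noncomputable section

namespace Groth.Agent.IMultLib

open CycLib ClProdLib

variable {Z W : Scheme.{u}} (f : Z ⟶ W) [GeometricallyIntegral f]

theorem specializes_fibGen (z : Z) : fibGen f (f z) ⤳ z := by
  haveI := isIntegral_fiber f (f z)
  obtain ⟨v, hv⟩ : z ∈ Set.range (f.fiberι (f z)) := by rw [Scheme.Hom.range_fiberι]; exact rfl
  have := (genericPoint_specializes v).map (f.fiberι (f z)).continuous
  rwa [hv] at this

theorem maxFib_fibGen (w : W) : MaxFib f (fibGen f w) := by
  haveI := isIntegral_fiber f w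
  intro v hv hvw
  obtain ⟨v', rfl⟩ : v ∈ Set.range (f.fiberι w) := by
    rw [Scheme.Hom.range_fiberι]
    exact hv.trans (apply_fibGen f w)
  have h := (f.fiberι w).isEmbedding.isInducing.specializes_iff.1
    (show f.fiberι w v' ⤳ f.fiberι w (genericPoint ↥(f.fiber w)) from hvw)
  exact congrArg (f.fiberι w) ((h.antisymm (genericPoint_specializes v')).eq)

theorem regular_fibIdeal [Smooth f] (z : Z) : IsRegularLocalRing (Z.presheaf.stalk z ⧸ fibIdeal f z) := by
  obtain ⟨v, hv⟩ : z ∈ Set.range (f.fiberι (f z)) := by rw [Scheme.Hom.range_fiberι]; exact rfl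
  have key : ∀ (y : W) (v : ↥(f.fiber y)),
      IsRegularLocalRing (Z.presheaf.stalk (f.fiberι y v) ⧸ fibIdeal f (f.fiberι y v)) := fun y v => by
    haveI : Smooth (f.fiberToSpecResidueField y) := MorphismProperty.pullback_snd _ _ inferInstance
    haveI := ASp.isRegularLocalRing_stalk_of_smooth_field (k := W.residueField y) (f.fiberToSpecResidueField y) v
    obtain ⟨hs, hk⟩ := S9501.result f y v
    exact IsRegularLocalRing.of_ringEquiv
      (((Ideal.quotEquivOfEq hk).symm.trans (RingHom.quotientKerEquivOfSurjective hs)).symm)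
  have h := key (f z) v
  rwa [hv] at h

theorem isPrime_fibIdeal [Smooth f] (z : Z) : (fibIdeal f z).IsPrime := by
  haveI := regular_fibIdeal f z
  haveI : IsDomain (Z.presheaf.stalk z ⧸ fibIdeal f z) := RegLocal.isDomain _
  exact (Ideal.Quotient.isDomain_iff_prime _).1 inferInstance

/-- The ideal of the closure of the generic point of the fibre is the ideal of the fibre. -/
theorem stalkIdeal_ptIdeal_fibGen [Smooth f] (z : Z) :
    IntMult.stalkIdeal (IntMult.ptIdeal (fibGen f (f z))) z = fibIdeal f z := by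
  haveI := isPrime_fibIdeal f z
  let P : PrimeSpectrum (Z.presheaf.stalk z) := ⟨fibIdeal f z, inferInstance⟩
  set a := fibGen f (f z) with ha
  have hPa : Z.fromSpecStalk z P = a := by
    have h1 : f (Z.fromSpecStalk z P) = f z := (apply_fromSpecStalk_eq_iff f P).2 le_rfl
    have hmax : MaxFib f (Z.fromSpecStalk z P) := fun v hv hvw => by
      have hz : Z.fromSpecStalk z P ⤳ z := by
        have := (fromSpecStalk_specializes_iff P (IsLocalRing.closedPoint _)).2
          (IsLocalRing.le_maximalIdeal P.2.ne_top)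
        rwa [Scheme.fromSpecStalk_closedPoint] at this
      obtain ⟨Q, rfl⟩ := exists_fromSpecStalk (hvw.trans hz)
      rw [h1, apply_fromSpecStalk_eq_iff] at hv
      rw [fromSpecStalk_specializes_iff] at hvw
      rw [show Q = P from le_antisymm hvw hv]
    rw [eq_fibGen f hmax, h1]
  obtain ⟨_, ⟨U : Z.Opens, hU, rfl⟩, hzU, -⟩ :=
    Z.isBasis_affineOpens.exists_subset_of_mem_open (Set.mem_univ z) isOpen_univ
  have haU : a ∈ U := (specializes_fibGen f z).mem_open U.2 hzU
  letI : Algebra Γ(Z, U) (Z.presheaf.stalk z) := TopCat.Presheaf.algebra_section_stalk Z.presheaf ⟨z, hzU⟩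
  haveI := hU.isLocalization_stalk ⟨z, hzU⟩
  let q := hU.primeIdealOf ⟨a, haU⟩
  have hq : (IntMult.ptIdeal a).ideal ⟨U, hU⟩ = q.asIdeal := by
    show PrimeSpectrum.vanishingIdeal (hU.fromSpec ⁻¹' closure {a}) = q.asIdeal
    rw [show hU.fromSpec ⁻¹' closure {a} = closure {q} from ?_]
    · rw [PrimeSpectrum.vanishingIdeal_closure, PrimeSpectrum.vanishingIdeal_singleton]
    · have hqa : hU.fromSpec q = a := hU.fromSpec_primeIdealOf ⟨a, haU⟩
      ext p
      rw [Set.mem_preimage, ← specializes_iff_mem_closure, ← specializes_iff_mem_closure, ← hqa,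
        hU.fromSpec.isOpenEmbedding.isInducing.specializes_iff]
  have hP : P.asIdeal.comap (algebraMap Γ(Z, U) (Z.presheaf.stalk z)) = q.asIdeal := by
    have h1 : hU.fromSpec (PrimeSpectrum.comap (algebraMap Γ(Z, U) (Z.presheaf.stalk z)) P) = hU.fromSpec q := by
      rw [hU.fromSpec_primeIdealOf ⟨a, haU⟩]
      refine Eq.trans ?_ hPa
      rw [← hU.fromSpecStalk_eq_fromSpecStalk hzU]
      rfl
    exact congrArg PrimeSpectrum.asIdeal (hU.fromSpec.isOpenEmbedding.injective h1)
  rw [IdealStalkLib.stalkIdeal_eq _ ⟨U, hU⟩ z hzU, hq, ← hP]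
  exact IsLocalization.map_comap (hU.primeIdealOf ⟨z, hzU⟩).asIdeal.primeCompl (Z.presheaf.stalk z) P.asIdeal

end Groth.Agent.IMultLib
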